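import Mathlib
import Cfsg.Agent.Lib.ASevenGL.Subgroups

/-!
Subgroups of `A₈` containing a five-point `A₅` whose normalizer has odd index.
-/

set_option autoImplicit false

namespace Cfsg.Agent.Lib.NatNormal87.AltEight

open Equiv Equiv.Perm

variable {K : Subgroup (Perm (Fin 8))}

/-- All three-cycles on `U` lie in `K`. -/
def Cycles (K : Subgroup (Perm (Fin 8))) (U : Finset (Fin 8)) : Prop :=
  ∀ x ∈ U, ∀ y ∈ U, ∀ z ∈ U, x ≠ y → x ≠ z → y ≠ z → swap x y * swap x z ∈ K

theorem cycles_union {U W : Finset (Fin 8)} (hU : Cycles K U) (hW : Cycles K W)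
    (hc : 1 < (U ∩ W).card) : Cycles K (U ∪ W) := by
  obtain ⟨a, ha, b, hb, hab⟩ := Finset.one_lt_card.1 hc
  rw [Finset.mem_inter] at ha hb
  have h1 : ∀ x ∈ U ∪ W, x ≠ a → swap a x * swap a b ∈ K := by
    intro x hx hxa
    by_cases hxb : x = b
    · rw [hxb, swap_mul_self]
      exact one_mem K
    · rcases Finset.mem_union.1 hx with hx | hx
      · exact hU a ha.1 x hx b hb.1 (Ne.symm hxa) hab hxb
      · exact hW a ha.2 x hx b hb.2 (Ne.symm hxa) hab hxb
  have h2 : ∀ x ∈ U ∪ W, ∀ y ∈ U ∪ W, x ≠ a → y ≠ a → swap a x * swap a y ∈ K := by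
    intro x hx y hy hxa hya
    have := mul_mem (h1 x hx hxa) (inv_mem (h1 y hy hya))
    rw [mul_inv_rev, swap_inv, swap_inv, mul_assoc, ← mul_assoc (swap a b), swap_mul_self,
      one_mul] at this
    exact this
  intro x hx y hy z hz hxy hxz hyz
  by_cases hxa : x = a
  · subst hxa
    exact h2 y hy z hz (Ne.symm hxy) (Ne.symm hxz)
  have conj : ∀ u, u ≠ x → u ≠ a → swap x u = swap a x * swap a u * swap a x := by
    intro u hu hua
    rw [show swap x u = swap (swap a x a) (swap a x u) by
      rw [swap_apply_left, swap_apply_of_ne_of_ne hua hu], swap_apply_apply, swap_inv]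
  by_cases hya : y = a
  · subst hya
    rw [swap_comm x y, conj z (Ne.symm hxz) (Ne.symm hyz), mul_assoc (swap y x) (swap y z),
      ← mul_assoc (swap y x), swap_mul_self, one_mul]
    exact h2 z hz x hx (Ne.symm hyz) hxa
  by_cases hza : z = a
  · subst hza
    rw [swap_comm x z, conj y (Ne.symm hxy) hya, mul_assoc (swap z x * swap z y), swap_mul_self,
      mul_one]
    exact h2 x hx y hy hxa hya
  rw [conj y (Ne.symm hxy) hya, conj z (Ne.symm hxz) hza]
  have e : swap a x * swap a y * swap a x * (swap a x * swap a z * swap a x) =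
      (swap a x * swap a y) * (swap a z * swap a x) := by
    simp only [mul_assoc, ← mul_assoc (swap a x) (swap a x) _, swap_mul_self, one_mul]
  rw [e]
  exact mul_mem (h2 x hx y hy hxa hya) (h2 z hz x hx hza hxa)

theorem cycles_map {U : Finset (Fin 8)} (hU : Cycles K U) {g : Perm (Fin 8)} (hg : g ∈ K) :
    Cycles K (U.image g) := by
  intro x hx y hy z hz hxy hxz hyz
  obtain ⟨x, hx', rfl⟩ := Finset.mem_image.1 hx
  obtain ⟨y, hy', rfl⟩ := Finset.mem_image.1 hy
  obtain ⟨z, hz', rfl⟩ := Finset.mem_image.1 hz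
  rw [swap_apply_apply, swap_apply_apply]
  have h := mul_mem (mul_mem hg (hU x hx' y hy' z hz' (fun h => hxy (h ▸ rfl))
    (fun h => hxz (h ▸ rfl)) (fun h => hyz (h ▸ rfl)))) (inv_mem hg)
  simpa [mul_assoc] using h

/-- Even permutations supported on `U` lie in `K`. -/
theorem even_mem {U : Finset (Fin 8)} (hU : Cycles K U) {g : Perm (Fin 8)}
    (hg : sign g = 1) (hfix : ∀ x, x ∉ U → g x = x) : g ∈ K := by
  have h2 : ∀ x, g x ≠ x → x ∈ U := fun x hx => by_contra fun h => hx (hfix x h)
  have h1 : ∀ x, g x ∈ U ↔ x ∈ U := by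
    intro x
    by_cases hgx : g x = x
    · rw [hgx]
    · exact ⟨fun _ => h2 x hgx, fun _ => h2 (g x) fun h => hgx (g.injective h)⟩
  have hle : alternatingGroup {x // x ∈ U} ≤
      K.comap (ofSubtype : Perm {x // x ∈ U} →* Perm (Fin 8)) := by
    rw [← closure_three_cycles_eq_alternating, Subgroup.closure_le]
    intro τ hτ
    obtain ⟨a, ha⟩ := (IsThreeCycle.isCycle hτ).nonempty_support
    have hn := ((IsThreeCycle.nodup_iff_mem_support hτ).2 ha)
    simp only [List.nodup_cons, List.mem_cons, List.not_mem_nil, or_false, not_or,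
      List.nodup_nil, and_true] at hn
    show ofSubtype τ ∈ K
    rw [(IsThreeCycle.eq_swap_mul_swap_iff_mem_support hτ).2 ha, map_mul, ofSubtype_swap_eq,
      ofSubtype_swap_eq, swap_comm]
    exact hU _ (τ a).2 _ a.2 _ (τ (τ a)).2 (fun h => hn.1.1 (Subtype.ext h.symm))
      (fun h => hn.2.1 (Subtype.ext h)) (fun h => hn.1.2 (Subtype.ext h))
  have := hle (show subtypePerm g h1 ∈ alternatingGroup {x // x ∈ U} by
    rw [mem_alternatingGroup]; convert (sign_subtypePerm g h1 h2).trans hg)
  rwa [Subgroup.mem_comap, ofSubtype_subtypePerm _ h2] at this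

theorem fix_of_commute {c x : Perm (Fin 8)} (hc : c.IsThreeCycle) (hx : x * x = 1)
    (hcx : x * c = c * x) : ∀ i ∈ c.support, x i = i := by
  intro i hi
  have hs := hc.support_eq_iff_mem_support.2 hi
  have hxc : ∀ j, x (c j) = c (x j) := fun j => by
    simpa [Perm.mul_apply] using Perm.ext_iff.1 hcx j
  have hxx : x (x i) = i := by simpa [Perm.mul_apply] using Perm.ext_iff.1 hx i
  have hn := hc.nodup_iff_mem_support.2 hi
  simp only [List.nodup_cons, List.mem_cons, List.not_mem_nil, or_false, not_or, List.nodup_nil,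
    and_true] at hn
  have h3 : c (c (c i)) = i := by
    have := congrArg (fun σ : Perm (Fin 8) => σ i) (pow_orderOf_eq_one c)
    simp only [hc.orderOf] at this
    simpa [pow_succ] using this
  have hmem : x i ∈ c.support := by
    rw [mem_support] at hi ⊢
    rw [← hxc]
    exact fun h => hi (x.injective h)
  rw [hs, Finset.mem_insert, Finset.mem_insert, Finset.mem_singleton] at hmem
  rcases hmem with h | h | h
  · exact h
  · rw [h, hxc, h] at hxx
    exact absurd hxx.symm hn.1.2
  · rw [h, hxc, hxc, h] at hxx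
    rw [h3] at hxx
    exact absurd hxx.symm hn.1.1

/-- The support of a three-cycle centralized by a subgroup of order 60. -/
theorem exists_five {L : Subgroup (Perm (Fin 8))} (hLA : L ≤ alternatingGroup (Fin 8))
    (hL : Nat.card L = 60) {c : Perm (Fin 8)} (hc3 : c ^ 3 = 1) (hc1 : c ≠ 1)
    (hcomm : ∀ l ∈ L, l * c = c * l)
    (hgen : L ≤ Subgroup.closure {x | x ∈ L ∧ x * x = 1}) :
    ∃ S : Finset (Fin 8), S.card = 5 ∧ ∀ g, g ∈ L ↔ sign g = 1 ∧ ∀ x, x ∉ S → g x = x := by
  have ho : orderOf c = 3 := orderOf_eq_prime hc3 hc1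
  obtain ⟨k, hk⟩ := cycleType_prime_order (σ := c) (by rw [ho]; norm_num)
  rw [ho] at hk
  have hsum : c.cycleType.sum ≤ 8 := by
    rw [sum_cycleType]
    exact (Finset.card_le_univ _).trans_eq (Fintype.card_fin 8)
  have hk1 : k < 2 := by
    rw [hk, Multiset.sum_replicate, smul_eq_mul] at hsum
    omega
  have hk0 : k = 0 := by
    by_contra hne
    have hk' : k = 1 := by omega
    have hle : L ≤ Subgroup.centralizer {c} := fun l hl =>
      Subgroup.mem_centralizer_iff.2 (by rintro _ rfl; exact (hcomm l hl).symm)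
    have hd := Subgroup.card_dvd_of_le hle
    rw [hL, nat_card_centralizer, hk, hk'] at hd
    revert hd
    decide
  subst hk0
  have hc : c.IsThreeCycle := hk
  have hfixc : ∀ g ∈ L, ∀ i ∈ c.support, g i = i := by
    intro g hg i hi
    have hle : Subgroup.closure {x | x ∈ L ∧ x * x = 1} ≤
        MulAction.stabilizer (Perm (Fin 8)) i := by
      rw [Subgroup.closure_le]
      rintro x ⟨hx, hxx⟩
      exact fix_of_commute hc hxx (hcomm x hx) i hi
    exact hle (hgen hg)
  refine ⟨c.supportᶜ, by rw [Finset.card_compl, hc.card_support, Fintype.card_fin], ?_⟩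
  have h1 : ∀ g ∈ L, ∀ x, g x ∈ c.supportᶜ ↔ x ∈ c.supportᶜ := by
    intro g hg x
    simp only [Finset.mem_compl]
    refine not_congr ⟨fun h => ?_, fun h => by rw [hfixc g hg x h]; exact h⟩
    rw [← g.injective (hfixc g hg _ h)]
    exact h
  have hfix : ∀ g ∈ L, ∀ x, x ∉ c.supportᶜ → g x = x := fun g hg x hx =>
    hfixc g hg x (by simpa using hx)
  have h2 : ∀ g ∈ L, ∀ x, g x ≠ x → x ∈ c.supportᶜ := fun g hg x hx =>
    by_contra fun h => hx (hfix g hg x h)
  let ι : L →* Perm {x // x ∈ c.supportᶜ} :=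
    MonoidHom.mk' (fun g => subtypePerm g.1 (h1 g.1 g.2)) fun g h => Perm.ext fun x => rfl
  have hι : Function.Injective ι := by
    intro g h e
    refine Subtype.ext (Perm.ext fun x => ?_)
    by_cases hx : x ∈ c.supportᶜ
    · exact congrArg Subtype.val (Perm.ext_iff.1 e ⟨x, hx⟩)
    · rw [hfix g.1 g.2 x hx, hfix h.1 h.2 x hx]
  have hr : ι.range = alternatingGroup {x // x ∈ c.supportᶜ} := by
    refine eq_alternatingGroup_of_index_eq_two ?_
    have h := ι.range.card_mul_index
    rw [← Nat.card_congr (MonoidHom.ofInjective hι).toEquiv, hL, Nat.card_perm,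
      Nat.card_eq_fintype_card, Fintype.card_coe, Finset.card_compl, hc.card_support,
      Fintype.card_fin] at h
    norm_num [Nat.factorial] at h
    omega
  intro g
  refine ⟨fun hg => ⟨mem_alternatingGroup.1 (hLA hg), hfix g hg⟩, fun ⟨hs, hf⟩ => ?_⟩
  have h2' : ∀ x, g x ≠ x → x ∈ c.supportᶜ := fun x hx => by_contra fun h => hx (hf x h)
  have h1' : ∀ x, g x ∈ c.supportᶜ ↔ x ∈ c.supportᶜ := by
    intro x
    by_cases hgx : g x = x
    · rw [hgx]
    · exact ⟨fun _ => h2' x hgx, fun _ => h2' (g x) fun h => hgx (g.injective h)⟩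
  have : subtypePerm g h1' ∈ ι.range := by
    rw [hr, mem_alternatingGroup]
    convert (sign_subtypePerm g h1' h2').trans hs
  obtain ⟨⟨l, hl⟩, hle⟩ := this
  have e : l = g := Perm.ext fun x => by
    by_cases hx : x ∈ c.supportᶜ
    · exact congrArg Subtype.val (Perm.ext_iff.1 hle ⟨x, hx⟩)
    · rw [hfix l hl x hx, hf x hx]
  exact e ▸ hl

theorem normal_or_alternating_seven (hKA : K ≤ alternatingGroup (Fin 8))
    {L : Subgroup (Perm (Fin 8))} (hLK : L ≤ K) (hL : Nat.card L = 60) {c : Perm (Fin 8)}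
    (hc3 : c ^ 3 = 1) (hc1 : c ≠ 1) (hcomm : ∀ l ∈ L, l * c = c * l)
    (hgen : L ≤ Subgroup.closure {x | x ∈ L ∧ x * x = 1})
    (hodd : ¬ 2 ∣ (Subgroup.normalizer (L : Set (Perm (Fin 8)))).relIndex K) :
    K ≤ Subgroup.normalizer (L : Set (Perm (Fin 8))) ∨
      Nonempty (K ≃* alternatingGroup (Fin 7)) := by
  classical
  obtain ⟨S, hS, hmem⟩ := exists_five (hLK.trans hKA) hL hc3 hc1 hcomm hgen
  have hcyc : Cycles K S := fun x hx y hy z hz hxy hxz hyz => hLK ((hmem _).2
    ⟨(isThreeCycle_swap_mul_swap_same hxy hxz hyz).sign, fun w hw => by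
      have h1 : w ≠ x := fun h => hw (h ▸ hx)
      rw [Perm.mul_apply, swap_apply_of_ne_of_ne h1 (fun h => hw (h ▸ hz)),
        swap_apply_of_ne_of_ne h1 (fun h => hw (h ▸ hy))]⟩)
  have hnorm : ∀ g ∈ Subgroup.normalizer (L : Set (Perm (Fin 8))), ∀ x, g x ∈ S ↔ x ∈ S := by
    have fwd : ∀ g ∈ Subgroup.normalizer (L : Set (Perm (Fin 8))), ∀ x, x ∈ S → g x ∈ S := by
      intro g hg x hx
      by_contra hgx
      obtain ⟨y, hy, hyx⟩ := Finset.exists_mem_ne (by omega : 1 < S.card) x
      obtain ⟨z, hz, hzy⟩ : ∃ z ∈ S.erase x, z ≠ y := Finset.exists_mem_ne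
        (by rw [Finset.card_erase_of_mem hx]; omega) y
      obtain ⟨hzx, hzS⟩ := Finset.mem_erase.1 hz
      have hl : swap x y * swap x z ∈ L := (hmem _).2
        ⟨(isThreeCycle_swap_mul_swap_same (Ne.symm hyx) (Ne.symm hzx) (Ne.symm hzy)).sign,
          fun w hw => by
            have h1 : w ≠ x := fun h => hw (h ▸ hx)
            rw [Perm.mul_apply, swap_apply_of_ne_of_ne h1 (fun h => hw (h ▸ hzS)),
              swap_apply_of_ne_of_ne h1 (fun h => hw (h ▸ hy))]⟩
      have hf := ((hmem _).1 ((Subgroup.mem_normalizer_iff.1 hg _).1 hl)).2 (g x) hgx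
      simp only [Perm.mul_apply, Perm.coe_inv, Equiv.symm_apply_apply, EmbeddingLike.apply_eq_iff_eq] at hf
      rw [swap_apply_left, swap_apply_of_ne_of_ne hzx hzy] at hf
      exact hzx hf
    intro g hg x
    refine ⟨fun h => ?_, fwd g hg x⟩
    simpa using fwd g⁻¹ (inv_mem hg) _ h
  obtain ⟨U, hU, hmax⟩ := Finset.exists_max_image
    (Finset.univ.filter fun U => S ⊆ U ∧ Cycles K U) Finset.card
    ⟨S, Finset.mem_filter.2 ⟨Finset.mem_univ _, Finset.Subset.refl S, hcyc⟩⟩
  obtain ⟨-, hSU, hUc⟩ := Finset.mem_filter.1 hU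
  have hU5 : 5 ≤ U.card := hS ▸ Finset.card_le_card hSU
  have hinv : ∀ g ∈ K, ∀ x, g x ∈ U ↔ x ∈ U := by
    intro g hg x
    have hW := cycles_map hUc hg
    have hcW : (U.image g).card = U.card := Finset.card_image_of_injective _ g.injective
    have hint : 1 < (U ∩ U.image g).card := by
      have h1 := Finset.card_union_add_card_inter U (U.image g)
      have h2 : (U ∪ U.image g).card ≤ 8 := by simpa using Finset.card_le_univ (U ∪ U.image g)
      omega
    have hm := hmax (U ∪ U.image g) (Finset.mem_filter.2 ⟨Finset.mem_univ _,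
      hSU.trans Finset.subset_union_left, cycles_union hUc hW hint⟩)
    have hsub : U = U ∪ U.image g := Finset.eq_of_subset_of_card_le Finset.subset_union_left hm
    have hWU : U.image g ⊆ U := fun v hv => by rw [hsub]; exact Finset.mem_union_right _ hv
    have heq := Finset.eq_of_subset_of_card_le hWU hcW.ge
    conv_lhs => rw [← heq]
    simp [g.injective.eq_iff]
  have hsplit := ((Subgroup.normalizer (L : Set (Perm (Fin 8)))).subgroupOf K).card_mul_index
  set r := (Subgroup.normalizer (L : Set (Perm (Fin 8)))).relIndex K with hr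
  have hrI : ((Subgroup.normalizer (L : Set (Perm (Fin 8)))).subgroupOf K).index = r := rfl
  rw [hrI] at hsplit
  by_cases hS8 : U.card = 5
  · left
    have hUS : U = S := (Finset.eq_of_subset_of_card_le hSU (by omega)).symm
    subst hUS
    have fwd : ∀ g ∈ K, ∀ l ∈ L, g * l * g⁻¹ ∈ L := by
      intro g hg l hl
      refine (hmem _).2 ⟨?_, fun x hx => ?_⟩
      · rw [map_mul, map_mul, map_inv, ((hmem l).1 hl).1, mul_one, mul_inv_cancel]
      · have h1 : g⁻¹ x ∉ U := fun h => hx ((hinv g⁻¹ (inv_mem hg) x).1 h)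
        rw [Perm.mul_apply, Perm.mul_apply, ((hmem l).1 hl).2 _ h1]
        simp
    exact fun g hg => Subgroup.mem_normalizer_iff.2 fun l => ⟨fwd g hg l, fun h => by
      simpa [mul_assoc] using fwd g⁻¹ (inv_mem hg) _ h⟩
  have hUle : U.card ≤ 8 := by simpa using Finset.card_le_univ U
  obtain h6 | h7 | h8 : U.card = 6 ∨ U.card = 7 ∨ U.card = 8 := by omega
  · exfalso
    obtain ⟨x, hx⟩ : ∃ x, U \ S = {x} := Finset.card_eq_one.1 (by
      rw [Finset.card_sdiff_of_subset hSU, hS, h6])
    have hxU : x ∈ U ∧ x ∉ S := Finset.mem_sdiff.1 (hx ▸ Finset.mem_singleton_self x)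
    have horb : MulAction.orbit K x = (U : Set (Fin 8)) := by
      ext y
      constructor
      · rintro ⟨⟨g, hg⟩, rfl⟩
        exact (hinv g hg x).2 hxU.1
      · intro hy
        by_cases hyx : y = x
        · exact ⟨1, by simp [hyx]⟩
        obtain ⟨z, hz, hzy⟩ : ∃ z ∈ U.erase x, z ≠ y := Finset.exists_mem_ne
          (by rw [Finset.card_erase_of_mem hxU.1]; omega) y
        obtain ⟨hzx, hzU⟩ := Finset.mem_erase.1 hz
        refine ⟨⟨_, hUc z hzU y hy x hxU.1 hzy hzx hyx⟩, ?_⟩
        show (swap z y * swap z x) x = y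
        rw [Perm.mul_apply, swap_apply_right, swap_apply_left]
    have hle : (Subgroup.normalizer (L : Set (Perm (Fin 8)))).subgroupOf K ≤
        MulAction.stabilizer K x := by
      intro g hg
      refine MulAction.mem_stabilizer_iff.2 ?_
      show g.1 x = x
      have h1 : g.1 x ∈ U \ S := Finset.mem_sdiff.2
        ⟨(hinv g.1 g.2 x).2 hxU.1, fun h => hxU.2 ((hnorm g.1 hg x).1 h)⟩
      exact Finset.mem_singleton.1 (hx ▸ h1)
    have hd := Subgroup.index_dvd_of_le hle
    rw [MulAction.index_stabilizer, horb, Set.ncard_coe_finset, h6, hrI] at hd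
    exact hodd ((by norm_num : 2 ∣ 6).trans hd)
  · right
    have hfix : ∀ g ∈ K, ∀ x, x ∉ U → g x = x := by
      intro g hg x hx
      obtain ⟨y, hy⟩ : ∃ y, Uᶜ = {y} := Finset.card_eq_one.1 (by
        rw [Finset.card_compl, h7, Fintype.card_fin])
      have h1 : x ∈ Uᶜ := Finset.mem_compl.2 hx
      have h2 : g x ∈ Uᶜ := Finset.mem_compl.2 fun h => hx ((hinv g hg x).1 h)
      rw [hy, Finset.mem_singleton] at h1 h2
      rw [h2, h1]
    have h2' : ∀ g ∈ K, ∀ x, g x ≠ x → x ∈ U := fun g hg x hx =>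
      by_contra fun h => hx (hfix g hg x h)
    let ι : K →* Perm {x // x ∈ U} :=
      MonoidHom.mk' (fun g => subtypePerm g.1 (hinv g.1 g.2)) fun g h => Perm.ext fun x => rfl
    have hι : Function.Injective ι := by
      intro g h e
      refine Subtype.ext (Perm.ext fun x => ?_)
      by_cases hx : x ∈ U
      · exact congrArg Subtype.val (Perm.ext_iff.1 e ⟨x, hx⟩)
      · rw [hfix g.1 g.2 x hx, hfix h.1 h.2 x hx]
    have hrange : ι.range = alternatingGroup {x // x ∈ U} := by
      ext τ
      rw [mem_alternatingGroup]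
      constructor
      · rintro ⟨g, rfl⟩
        show sign (subtypePerm g.1 (hinv g.1 g.2)) = 1
        convert (sign_subtypePerm g.1 (hinv g.1 g.2) (h2' g.1 g.2)).trans
          (mem_alternatingGroup.1 (hKA g.2))
      · intro hτ
        refine ⟨⟨ofSubtype τ, even_mem hUc (by rw [sign_ofSubtype, hτ])
          fun x hx => ofSubtype_apply_of_not_mem τ hx⟩, ?_⟩
        refine Perm.ext fun x => Subtype.ext ?_
        show ofSubtype τ x.1 = _
        rw [ofSubtype_apply_coe]
    refine ASevenGL.nonempty_alternating_of_injective (α := {x // x ∈ U}) ?_ (by norm_num) ι hι ?_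
    · rw [Nat.card_eq_fintype_card, Fintype.card_coe, h7]
    · have hne : Nontrivial {x // x ∈ U} :=
        Fintype.one_lt_card_iff_nontrivial.1 (by rw [Fintype.card_coe, h7]; norm_num)
      rw [Nat.card_congr (MonoidHom.ofInjective hι).toEquiv, hrange,
        two_mul_nat_card_alternatingGroup, Nat.card_perm, Nat.card_eq_fintype_card, Fintype.card_coe,
        h7]
  · exfalso
    have hU' : U = Finset.univ := Finset.eq_univ_of_card _ (by simpa using h8)
    subst hU'
    have hK : K = alternatingGroup (Fin 8) := le_antisymm hKA fun g hg =>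
      even_mem hUc (mem_alternatingGroup.1 hg) fun x hx => absurd (Finset.mem_univ x) hx
    have hcK : Nat.card K = 20160 := by rw [hK]; exact ASevenGL.card_aeight
    set N := (Subgroup.normalizer (L : Set (Perm (Fin 8)))).subgroupOf K with hN
    let ι : N →* Perm {x // x ∈ S} × Perm {x // x ∉ S} := MonoidHom.mk'
      (fun g => (subtypePerm g.1.1 (hnorm g.1.1 g.2),
        subtypePerm g.1.1 fun x => not_congr (hnorm g.1.1 g.2 x)))
      fun g h => Prod.ext (Perm.ext fun x => rfl) (Perm.ext fun x => rfl)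
    have hι : Function.Injective ι := by
      intro g h e
      refine Subtype.ext (Subtype.ext (Perm.ext fun x => ?_))
      by_cases hx : x ∈ S
      · exact congrArg Subtype.val (Perm.ext_iff.1 (congrArg Prod.fst e) ⟨x, hx⟩)
      · exact congrArg Subtype.val (Perm.ext_iff.1 (congrArg Prod.snd e) ⟨x, hx⟩)
    have hd := Subgroup.card_dvd_of_injective ι hι
    have e1 : Nat.card {x // x ∈ S} = 5 := by
      rw [Nat.card_eq_fintype_card, Fintype.card_coe, hS]
    have e2 : Nat.card {x // x ∉ S} = 3 := by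
      rw [Nat.card_eq_fintype_card, Fintype.card_subtype_compl, Fintype.card_coe, hS,
        Fintype.card_fin]
    rw [Nat.card_prod, Nat.card_perm, Nat.card_perm, e1, e2] at hd
    rw [hcK] at hsplit
    have hcop : Nat.Coprime 64 r := by
      rw [show (64 : ℕ) = 2 ^ 6 by norm_num]
      exact Nat.Coprime.pow_left 6 ((Nat.Prime.coprime_iff_not_dvd Nat.prime_two).2 hodd)
    have h64 : 64 ∣ Nat.card N := hcop.dvd_of_dvd_mul_right (by rw [hsplit]; norm_num)
    have := h64.trans hd
    norm_num [Nat.factorial] at this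

end Cfsg.Agent.Lib.NatNormal87.AltEight
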