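import Mathlib
import Cfsg.Agent.Lib.NatSL2.Basic

/-!
A natural `SL₂(q)`-module `V` for a subgroup `L` of a group `G` acting faithfully on it, under the
hypothesis that a root group of `L` is the whole stabilizer in `G` of its series on `V`.
-/

set_option autoImplicit false

namespace Cfsg.Agent.Lib.NatNormal87

open Matrix
open Cfsg.Agent.Lib.NatSL2

/-- The standing hypotheses. -/
structure Ctx {X : Type*} [Group X] (F : Type*) [Field F] (G V L A : Subgroup X) where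
  f : Frame F V L A
  hG : G ≤ Subgroup.normalizer (V : Set X)
  hLG : L ≤ G
  faith : ∀ g ∈ G, (∀ v ∈ V, g * v * g⁻¹ = v) → g = 1
  stab : ∀ g ∈ G, (∀ v ∈ V ⊓ Subgroup.centralizer (A : Set X), g * v * g⁻¹ = v) →
    (∀ v ∈ V, v * g * v⁻¹ * g⁻¹ ∈ V ⊓ Subgroup.centralizer (A : Set X)) → g ∈ A

namespace Ctx

variable {X : Type*} [Group X] {F : Type*} [Field F] {G V L A : Subgroup X}
variable (C : Ctx F G V L A)
/-- The line fixed by `A`. -/
def line (_ : Ctx F G V L A) : Subgroup X := V ⊓ Subgroup.centralizer (A : Set X)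

include C

theorem A_le : A ≤ G := C.f.le_L.trans C.hLG

theorem conjV {g v : X} (hg : g ∈ G) (hv : v ∈ V) : g * v * g⁻¹ ∈ V :=
  (Subgroup.mem_normalizer_iff.1 (C.hG hg) v).1 hv

theorem line_le {v : X} (hv : v ∈ C.line) : v ∈ V := hv.1

theorem fix_line {a v : X} (ha : a ∈ A) (hv : v ∈ C.line) : a * v * a⁻¹ = v := by
  rw [mul_inv_eq_iff_eq_mul]
  exact Subgroup.mem_centralizer_iff.1 hv.2 a ha

theorem mem_line_of_fix {a v : X} (ha : a ∈ A) (ha1 : a ≠ 1) (hv : v ∈ V)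
    (h : a * v * a⁻¹ = v) : v ∈ C.line := by
  show v ∈ V ⊓ Subgroup.centralizer (A : Set X)
  rw [← C.f.centralizer_singleton ha ha1]
  refine ⟨hv, Subgroup.mem_centralizer_iff.2 ?_⟩
  rintro _ rfl
  exact mul_inv_eq_iff_eq_mul.1 h

/-- The vector with coordinates `(x, y)`. -/
noncomputable def pt (x y : F) : X := (C.f.c_surj ![x, y]).choose

theorem pt_mem (x y : F) : C.pt x y ∈ V := (C.f.c_surj ![x, y]).choose_spec.choose

theorem c_pt (x y : F) : C.f.c (C.pt x y) (C.pt_mem x y) = ![x, y] :=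
  (C.f.c_surj ![x, y]).choose_spec.choose_spec

theorem eq_pt {v : X} (hv : v ∈ V) : v = C.pt (C.f.c v hv 0) (C.f.c v hv 1) := by
  refine C.f.c_inj (hv := hv) (hw := C.pt_mem _ _) ?_
  rw [C.c_pt]
  ext i
  fin_cases i <;> rfl

theorem pt_inj {x y x' y' : F} (h : C.pt x y = C.pt x' y') : x = x' ∧ y = y' := by
  have key : ∀ (v w : X) (hv : v ∈ V) (hw : w ∈ V), v = w → C.f.c v hv = C.f.c w hw := by
    intro v w hv hw h
    subst h
    rfl
  have h1 := key _ _ (C.pt_mem x y) (C.pt_mem x' y') h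
  rw [C.c_pt, C.c_pt] at h1
  exact ⟨by simpa using congrFun h1 0, by simpa using congrFun h1 1⟩

theorem pt_mul (x y x' y' : F) : C.pt x y * C.pt x' y' = C.pt (x + x') (y + y') := by
  refine C.f.c_inj (hv := mul_mem (C.pt_mem x y) (C.pt_mem x' y')) (hw := C.pt_mem _ _) ?_
  rw [C.f.c_mul (C.pt_mem x y) (C.pt_mem x' y'), C.c_pt, C.c_pt, C.c_pt]
  simp

theorem pt_zero : C.pt 0 0 = 1 := by
  have h := C.pt_mul 0 0 0 0
  rw [add_zero] at h
  exact mul_eq_left.1 h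

theorem pt_inv (x y : F) : (C.pt x y)⁻¹ = C.pt (-x) (-y) :=
  inv_eq_of_mul_eq_one_right (by rw [C.pt_mul, add_neg_cancel, add_neg_cancel, C.pt_zero])

theorem pt_mem_line (x : F) : C.pt x 0 ∈ C.line :=
  C.f.mem_K.2 ⟨C.pt_mem x 0, by rw [C.c_pt]; rfl⟩

theorem exists_of_mem_line {v : X} (hv : v ∈ C.line) : ∃ x, v = C.pt x 0 := by
  obtain ⟨h, h0⟩ := C.f.mem_K.1 hv
  exact ⟨C.f.c v h 0, by rw [← h0]; exact C.eq_pt h⟩

/-- The element of `A` with parameter `t`. -/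
noncomputable def root (t : F) : X := (C.f.exists_upper t).choose

theorem root_mem (t : F) : C.root t ∈ A :=
  (C.f.exists_upper t).choose_spec.choose_spec.1

theorem rho_root (t : F) : C.f.ρ ⟨C.root t, C.f.le_L (C.root_mem t)⟩ = SL2.upper t :=
  (C.f.exists_upper t).choose_spec.choose_spec.2

theorem exists_root {a : X} (ha : a ∈ A) : ∃ t, a = C.root t := by
  obtain ⟨t, ht⟩ := (C.f.mem_T ⟨a, C.f.le_L ha⟩).1 ha
  exact ⟨t, congrArg Subtype.val (C.f.ρ.injective (ht.trans (C.rho_root t).symm))⟩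

theorem root_inj {s t : F} (h : C.root s = C.root t) : s = t := by
  have h1 : (⟨C.root s, C.f.le_L (C.root_mem s)⟩ : L) = ⟨C.root t, C.f.le_L (C.root_mem t)⟩ :=
    Subtype.ext h
  have h2 := congrArg C.f.ρ h1
  rw [C.rho_root, C.rho_root] at h2
  simpa [SL2.upper_01] using congrArg (fun M => M 0 1) h2

theorem root_zero : C.root 0 = 1 := by
  have h : (⟨C.root 0, C.f.le_L (C.root_mem 0)⟩ : L) = 1 :=
    C.f.ρ.injective (by rw [C.rho_root, map_one, SL2.upper_zero])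
  exact congrArg Subtype.val h

theorem root_ne_one {t : F} (ht : t ≠ 0) : C.root t ≠ 1 := fun h =>
  ht (C.root_inj (h.trans C.root_zero.symm))

theorem conj_root_pt (t x y : F) : C.root t * C.pt x y * (C.root t)⁻¹ = C.pt (x + t * y) y := by
  refine C.f.c_inj (hv := C.f.conj_mem (C.f.le_L (C.root_mem t)) (C.pt_mem x y))
    (hw := C.pt_mem _ _) ?_
  rw [C.f.c_conj (C.f.le_L (C.root_mem t)) (C.pt_mem x y), C.rho_root, C.c_pt, C.c_pt]
  ext i
  fin_cases i <;> simp [SL2.upper, Matrix.mulVec, dotProduct, Fin.sum_univ_two]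

theorem comm_root_pt (t d : F) :
    C.pt 0 d * C.root t * (C.pt 0 d)⁻¹ * (C.root t)⁻¹ = C.pt (-(t * d)) 0 := by
  rw [show C.pt 0 d * C.root t * (C.pt 0 d)⁻¹ * (C.root t)⁻¹ =
    C.pt 0 d * (C.root t * (C.pt 0 d)⁻¹ * (C.root t)⁻¹) by group, C.pt_inv, C.conj_root_pt,
    C.pt_mul]
  congr 1 <;> ring

theorem line_surj [Finite X] {g : X} (h : ∀ v ∈ C.line, g * v * g⁻¹ ∈ C.line) :
    ∀ v ∈ C.line, g⁻¹ * v * g ∈ C.line := by
  intro v hv
  have hinj : Function.Injective fun u : C.line => (⟨g * u.1 * g⁻¹, h u.1 u.2⟩ : C.line) :=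
    fun a b hab => Subtype.ext (by simpa using congrArg Subtype.val hab)
  obtain ⟨u, hu⟩ := Finite.surjective_of_injective hinj ⟨v, hv⟩
  have hu' : g * u.1 * g⁻¹ = v := congrArg Subtype.val hu
  have e : g⁻¹ * v * g = u.1 := by rw [← hu']; group
  rw [e]
  exact u.2

theorem conj_mem_of_line [Finite X] {g : X} (hg : g ∈ G) (h : ∀ v ∈ C.line, g * v * g⁻¹ ∈ C.line)
    {a : X} (ha : a ∈ A) : g * a * g⁻¹ ∈ A := by
  refine C.stab _ (mul_mem (mul_mem hg (C.A_le ha)) (inv_mem hg)) (fun v hv => ?_) fun v hv => ?_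
  · have e := C.fix_line ha (C.line_surj h v hv)
    calc g * a * g⁻¹ * v * (g * a * g⁻¹)⁻¹
        = g * (a * (g⁻¹ * v * g) * a⁻¹) * g⁻¹ := by group
      _ = v := by rw [e]; group
  · have hw : g⁻¹ * v * g ∈ V := by simpa using C.conjV (inv_mem hg) hv
    have e := h _ (C.f.comm_mem_K hw ha)
    rw [show v * (g * a * g⁻¹) * v⁻¹ * (g * a * g⁻¹)⁻¹ =
      g * (g⁻¹ * v * g * a * (g⁻¹ * v * g)⁻¹ * a⁻¹) * g⁻¹ by group]
    exact e

theorem norm_of_line [Finite X] {g : X} (hg : g ∈ G)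
    (h : ∀ v ∈ C.line, g * v * g⁻¹ ∈ C.line) : g ∈ Subgroup.normalizer (A : Set X) := by
  refine Subgroup.mem_normalizer_iff.2 fun a => ⟨fun ha => C.conj_mem_of_line hg h ha, fun ha => ?_⟩
  have h' : ∀ v ∈ C.line, g⁻¹ * v * g⁻¹⁻¹ ∈ C.line := by simpa using C.line_surj h
  simpa [mul_assoc] using C.conj_mem_of_line (inv_mem hg) h' ha

/-- `A` meets its distinct conjugates trivially. -/
theorem ti [Finite X] {g a : X} (hg : g ∈ G) (ha : a ∈ A) (ha1 : a ≠ 1)
    (h : g * a * g⁻¹ ∈ A) : g ∈ Subgroup.normalizer (A : Set X) := by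
  refine C.norm_of_line hg fun v hv => C.mem_line_of_fix h (fun h1 => ha1 ?_)
    (C.conjV hg (C.line_le hv)) ?_
  · exact (conj_eq_one_iff).1 h1
  · calc g * a * g⁻¹ * (g * v * g⁻¹) * (g * a * g⁻¹)⁻¹
        = g * (a * v * a⁻¹) * g⁻¹ := by group
      _ = g * v * g⁻¹ := by rw [C.fix_line ha hv]

theorem conj_line {g v : X} (hg : g ∈ G) (hA : g ∈ Subgroup.normalizer (A : Set X))
    (hv : v ∈ C.line) : g * v * g⁻¹ ∈ C.line := by
  have hr := C.root_mem (1 : F)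
  refine C.mem_line_of_fix ((Subgroup.mem_normalizer_iff.1 hA _).1 hr)
    (fun h => C.root_ne_one one_ne_zero (conj_eq_one_iff.1 h)) (C.conjV hg (C.line_le hv)) ?_
  calc g * C.root 1 * g⁻¹ * (g * v * g⁻¹) * (g * C.root 1 * g⁻¹)⁻¹
      = g * (C.root 1 * v * (C.root 1)⁻¹) * g⁻¹ := by group
    _ = g * v * g⁻¹ := by rw [C.fix_line hr hv]

end Ctx

end Cfsg.Agent.Lib.NatNormal87
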