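import Mathlib
import Cfsg.Agent.Lib.NatNormal87.Ctx

/-!
The normalizer of a root group acts semilinearly on its line.
-/

set_option autoImplicit false

namespace Cfsg.Agent.Lib.NatNormal87

open Cfsg.Agent.Lib.NatSL2

theorem card_le_of_pow_eq_one {F : Type*} [Field F] [Finite F] {p : ℕ} [Fact p.Prime] [CharP F p]
    {P : Type*} [Group P] [Finite P] (φ : P →* (F ≃+* F)) (hφ : Function.Injective φ)
    (hexp : ∀ x : P, x ^ p = 1) : Nat.card P ≤ p := by
  letI : Algebra (ZMod p) F := ZMod.algebra F p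
  let τ : (F ≃+* F) →* (F ≃ₐ[ZMod p] F) :=
    MonoidHom.mk' (fun e => AlgEquiv.ofRingEquiv (f := e) fun x =>
      RingHom.congr_fun (Subsingleton.elim ((e : F →+* F).comp (algebraMap (ZMod p) F))
        (algebraMap (ZMod p) F)) x) fun a b => AlgEquiv.ext fun x => rfl
  have hτ : Function.Injective τ := fun a b h => RingEquiv.ext fun x => AlgEquiv.congr_fun h x
  set H := (τ.comp φ).range with hH
  have hinj : Function.Injective (τ.comp φ) := hτ.comp hφ
  rw [Nat.card_congr (MonoidHom.ofInjective hinj).toEquiv, ← hH]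
  obtain ⟨x, hx⟩ := IsCyclic.exists_generator (α := H)
  rw [← orderOf_eq_card_of_forall_mem_zpowers hx]
  refine Nat.le_of_dvd (Fact.out : p.Prime).pos (orderOf_dvd_of_pow_eq_one ?_)
  obtain ⟨y, hy⟩ := x.2
  refine Subtype.ext ?_
  push_cast
  rw [← hy, ← map_pow, hexp, map_one]

theorem ringEquiv_eq_refl_of_card {F : Type*} [Field F] [Fintype F] {p : ℕ} [Fact p.Prime]
    (h : Fintype.card F = p) (σ : F ≃+* F) : σ = 1 := by
  let e : ZMod p ≃+* F := ZMod.ringEquivOfPrime F Fact.out h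
  refine RingEquiv.ext fun x => ?_
  obtain ⟨n, rfl⟩ := e.surjective x
  exact RingHom.congr_fun (Subsingleton.elim ((σ : F →+* F).comp (e : ZMod p →+* F)) e) n

theorem exists_fixed {X : Type*} [Group X] [Finite X] {p : ℕ} [Fact p.Prime] {P K : Subgroup X}
    (hP : IsPGroup p P) (hK : ∀ g ∈ P, ∀ v ∈ K, g * v * g⁻¹ ∈ K) (hd : p ∣ Nat.card K) :
    ∃ v ∈ K, v ≠ 1 ∧ ∀ g ∈ P, g * v * g⁻¹ = v := by
  letI : MulAction P K :=
    { smul := fun g v => ⟨g.1 * v.1 * g.1⁻¹, hK g.1 g.2 v.1 v.2⟩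
      one_smul := fun v => Subtype.ext (by show (1 : X) * v.1 * (1 : X)⁻¹ = v.1; simp)
      mul_smul := fun g h v => Subtype.ext (by
        show g.1 * h.1 * v.1 * (g.1 * h.1)⁻¹ = g.1 * (h.1 * v.1 * h.1⁻¹) * g.1⁻¹
        group) }
  have h1 : (1 : K) ∈ MulAction.fixedPoints P K := fun g => Subtype.ext (by
    show g.1 * 1 * g.1⁻¹ = 1
    simp)
  obtain ⟨v, hv, hne⟩ := hP.exists_fixed_point_of_prime_dvd_card_of_fixed_point K hd h1
  exact ⟨v.1, v.2, fun h => hne (Subtype.ext h.symm), fun g hg => congrArg Subtype.val (hv ⟨g, hg⟩)⟩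

namespace Ctx

variable {X : Type*} [Group X] {F : Type*} [Field F] {G V L A : Subgroup X}
variable (C : Ctx F G V L A)
include C

theorem exists_semilinear {g : X} (hg : g ∈ G) (hA : g ∈ Subgroup.normalizer (A : Set X)) :
    ∃ (S f D : F → F), (∀ x, g * C.pt x 0 * g⁻¹ = C.pt (S x) 0) ∧
      (∀ t, g * C.root t * g⁻¹ = C.root (f t)) ∧
      (∀ d, ∃ x, g * C.pt 0 d * g⁻¹ = C.pt x (D d)) ∧
      ∀ t d, S (t * d) = f t * D d := by
  choose S hS using fun x => C.exists_of_mem_line (C.conj_line hg hA (C.pt_mem_line x))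
  choose f hf using fun t => C.exists_root ((Subgroup.mem_normalizer_iff.1 hA _).1 (C.root_mem t))
  have hDx : ∀ d, ∃ D x, g * C.pt 0 d * g⁻¹ = C.pt x D := fun d =>
    ⟨_, _, C.eq_pt (C.conjV hg (C.pt_mem 0 d))⟩
  choose D x hx using hDx
  refine ⟨S, f, D, hS, hf, fun d => ⟨x d, hx d⟩, fun t d => ?_⟩
  have h1 : C.pt (S (-(t * d))) 0 = C.pt (-(f t * D d)) 0 := by
    calc C.pt (S (-(t * d))) 0 = g * C.pt (-(t * d)) 0 * g⁻¹ := (hS _).symm
      _ = g * (C.pt 0 d * C.root t * (C.pt 0 d)⁻¹ * (C.root t)⁻¹) * g⁻¹ := by rw [C.comm_root_pt]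
      _ = (g * C.pt 0 d * g⁻¹) * (g * C.root t * g⁻¹) * (g * C.pt 0 d * g⁻¹)⁻¹ *
            (g * C.root t * g⁻¹)⁻¹ := by group
      _ = C.pt (x d) (D d) * (C.root (f t) * (C.pt (x d) (D d))⁻¹ * (C.root (f t))⁻¹) := by
            rw [hx, hf]; group
      _ = _ := by
            rw [C.pt_inv, C.conj_root_pt, C.pt_mul]
            congr 1 <;> ring
  have h2 : C.pt (S (t * d) + S (-(t * d))) 0 = C.pt 0 0 := by
    rw [show C.pt (S (t * d) + S (-(t * d))) 0 = C.pt (S (t * d)) 0 * C.pt (S (-(t * d))) 0 by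
      rw [C.pt_mul, add_zero], ← hS, ← hS]
    rw [show g * C.pt (t * d) 0 * g⁻¹ * (g * C.pt (-(t * d)) 0 * g⁻¹) =
      g * (C.pt (t * d) 0 * C.pt (-(t * d)) 0) * g⁻¹ by group, C.pt_mul, add_neg_cancel,
      add_zero, C.pt_zero]
    simp
  have h3 := (C.pt_inj h2).1
  rw [(C.pt_inj h1).1] at h3
  exact eq_of_sub_eq_zero ((sub_eq_add_neg _ _).trans h3)

theorem exists_sigma [Finite F] {g : X} (hg : g ∈ G) (hA : g ∈ Subgroup.normalizer (A : Set X))
    {e : F} (he : e ≠ 0) (hfix : g * C.pt e 0 * g⁻¹ = C.pt e 0) :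
    ∃ σ : F ≃+* F, ∀ t, g * C.pt (t * e) 0 * g⁻¹ = C.pt (σ t * e) 0 := by
  obtain ⟨S, f, D, hS, -, -, hSD⟩ := C.exists_semilinear hg hA
  have hSe : S e = e := (C.pt_inj ((hS e).symm.trans hfix)).1
  have hadd : ∀ x y, S (x + y) = S x + S y := fun x y => by
    refine (C.pt_inj (y := 0) (y' := 0) ?_).1
    calc C.pt (S (x + y)) 0 = g * C.pt (x + y) 0 * g⁻¹ := (hS _).symm
      _ = g * (C.pt x 0 * C.pt y 0) * g⁻¹ := by rw [C.pt_mul, add_zero]
      _ = (g * C.pt x 0 * g⁻¹) * (g * C.pt y 0 * g⁻¹) := by group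
      _ = _ := by rw [hS, hS, C.pt_mul, add_zero]
  have h11 : f 1 * D e = e := by rw [← hSD, one_mul, hSe]
  have hDe : D e ≠ 0 := right_ne_zero_of_mul (h11.symm ▸ he)
  let s : F → F := fun t => S (t * e) / e
  have hft : ∀ t, f t = f 1 * s t := fun t => by
    refine mul_right_cancel₀ hDe ?_
    have h := hSD t e
    simp only [s]
    rw [← h]
    field_simp
    linear_combination -S (t * e) * h11
  have hprod : ∀ t d, S (t * d) = s t * S d := fun t d => by
    have h1 := hSD 1 d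
    rw [one_mul] at h1
    rw [hSD, hft, h1]
    ring
  let σ0 : F →+* F :=
    { toFun := s
      map_one' := by simp only [s, one_mul, hSe, div_self he]
      map_mul' := fun a b => by
        show S (a * b * e) / e = s a * (S (b * e) / e)
        rw [mul_assoc, hprod, mul_div_assoc]
      map_zero' := by
        have h := hadd 0 0
        rw [add_zero] at h
        simp only [s, zero_mul]
        rw [show S 0 = 0 by simpa using h, zero_div]
      map_add' := fun a b => by simp only [s, add_mul, hadd, add_div] }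
  refine ⟨RingEquiv.ofBijective σ0 ⟨σ0.injective, Finite.surjective_of_injective σ0.injective⟩,
    fun t => ?_⟩
  rw [hS]
  show _ = C.pt (S (t * e) / e * e) 0
  rw [div_mul_cancel₀ _ he]

theorem mem_of_fix_line {p : ℕ} [Fact p.Prime] [CharP F p] {g : X} (hg : g ∈ G)
    (hA : g ∈ Subgroup.normalizer (A : Set X)) (hp : g ^ p = 1)
    (hfix : ∀ v ∈ C.line, g * v * g⁻¹ = v) : g ∈ A := by
  obtain ⟨S, f, D, hS, hf, hD, hSD⟩ := C.exists_semilinear hg hA
  have hSid : ∀ x, S x = x := fun x => (C.pt_inj ((hS x).symm.trans (hfix _ (C.pt_mem_line x)))).1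
  have hd : ∀ d, d = f 1 * D d := fun d => by rw [← hSD, one_mul, hSid]
  have hD1 : f 1 * D 1 = 1 := (hd 1).symm
  have hlin : ∀ t, f t = f 1 * t := fun t => by
    have h := hSD t 1
    rw [mul_one, hSid] at h
    calc f t = f t * (f 1 * D 1) := by rw [hD1, mul_one]
      _ = f 1 * (f t * D 1) := by ring
      _ = f 1 * t := by rw [← h]
  have hpow : ∀ n : ℕ, g ^ n * C.root 1 * (g ^ n)⁻¹ = C.root (f 1 ^ n) := by
    intro n
    induction n with
    | zero => simp
    | succ n ih =>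
      rw [pow_succ', show g * g ^ n * C.root 1 * (g * g ^ n)⁻¹ =
        g * (g ^ n * C.root 1 * (g ^ n)⁻¹) * g⁻¹ by group, ih, hf, hlin, pow_succ']
  have h1 : f 1 = 1 := by
    have h := hpow p
    rw [hp] at h
    simp only [one_mul, inv_one, mul_one] at h
    exact frobenius_inj F p (by simpa [frobenius_def] using (C.root_inj h).symm)
  refine C.stab g hg hfix fun v hv => ?_
  obtain ⟨a, b, rfl⟩ : ∃ a b, v = C.pt a b := ⟨_, _, C.eq_pt hv⟩
  obtain ⟨x, hx⟩ := hD b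
  have hDb : D b = b := by
    have := hd b
    rw [h1, one_mul] at this
    exact this.symm
  rw [show C.pt a b * g * (C.pt a b)⁻¹ * g⁻¹ = C.pt a b * (g * C.pt a b * g⁻¹)⁻¹ by group,
    show C.pt a b = C.pt a 0 * C.pt 0 b by rw [C.pt_mul, add_zero, zero_add],
    show g * (C.pt a 0 * C.pt 0 b) * g⁻¹ = g * C.pt a 0 * g⁻¹ * (g * C.pt 0 b * g⁻¹) by group,
    hS, hx, C.pt_mul, C.pt_mul, C.pt_inv, C.pt_mul, zero_add, zero_add, hDb, add_neg_cancel]
  exact C.pt_mem_line _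

/-- A subgroup of exponent `p` normalizing `A` and meeting it trivially is small. -/
theorem card_le [Finite X] [Fintype F] {p : ℕ} [Fact p.Prime] [CharP F p] {P : Subgroup X}
    (hP : P ≤ G) (hPA : P ≤ Subgroup.normalizer (A : Set X)) (hexp : ∀ g ∈ P, g ^ p = 1)
    (hd : P ⊓ A = ⊥) :
    Nat.card P ≤ p ∧ (Fintype.card F = p → P = ⊥) := by
  have hPp : IsPGroup p P := fun g => ⟨1, Subtype.ext (by simpa using hexp g.1 g.2)⟩
  have hdl : p ∣ Nat.card C.line := by
    show p ∣ Nat.card ↥(V ⊓ Subgroup.centralizer (A : Set X))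
    rw [C.f.card_K, Nat.card_eq_fintype_card]
    obtain ⟨n, -, hn⟩ := FiniteField.card F p
    exact hn ▸ dvd_pow_self p n.ne_zero
  obtain ⟨v, hv, hv1, hfix⟩ := exists_fixed (K := C.line) hPp
    (fun g hg u hu => C.conj_line (hP hg) (hPA hg) hu) hdl
  obtain ⟨e, rfl⟩ := C.exists_of_mem_line hv
  have he : e ≠ 0 := fun h => hv1 (h ▸ C.pt_zero)
  choose σ hσ using fun g : P => C.exists_sigma (hP g.2) (hPA g.2) he (hfix g.1 g.2)
  have key : ∀ g : P, ∀ t u, g.1 * C.pt (t * e) 0 * g.1⁻¹ = C.pt (u * e) 0 → σ g t = u :=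
    fun g t u h => mul_right_cancel₀ he (C.pt_inj ((hσ g t).symm.trans h)).1
  let φ : P →* (F ≃+* F) := MonoidHom.mk' σ fun g h => RingEquiv.ext fun t => key (g * h) t _ (by
    show g.1 * h.1 * C.pt (t * e) 0 * (g.1 * h.1)⁻¹ = C.pt (σ g (σ h t) * e) 0
    rw [show g.1 * h.1 * C.pt (t * e) 0 * (g.1 * h.1)⁻¹ =
      g.1 * (h.1 * C.pt (t * e) 0 * h.1⁻¹) * g.1⁻¹ by group, hσ, hσ])
  have hker : ∀ g : P, φ g = 1 → g = 1 := fun g hg => by
    have hgA : g.1 ∈ A := C.mem_of_fix_line (hP g.2) (hPA g.2) (hexp g.1 g.2) fun u hu => by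
      obtain ⟨x, rfl⟩ := C.exists_of_mem_line hu
      have h := hσ g (x / e)
      rw [show σ g = 1 from hg, div_mul_cancel₀ _ he] at h
      simpa [div_mul_cancel₀ _ he] using h
    exact Subtype.ext ((Subgroup.eq_bot_iff_forall _).1 hd g.1 ⟨g.2, hgA⟩)
  have hinj : Function.Injective φ := (injective_iff_map_eq_one φ).2 hker
  refine ⟨card_le_of_pow_eq_one φ hinj fun g => Subtype.ext (by simpa using hexp g.1 g.2),
    fun h => (Subgroup.eq_bot_iff_forall P).2 fun g hg => ?_⟩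
  exact congrArg Subtype.val (hker ⟨g, hg⟩ (ringEquiv_eq_refl_of_card h _))

end Ctx

end Cfsg.Agent.Lib.NatNormal87
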