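import Mathlib
import Cfsg.Agent.Lib.NatNormal87.Galois

/-!
For `q ≠ 4` distinct conjugates of a root group have disjoint lines, whence `L` is normal.
-/

set_option autoImplicit false

namespace Cfsg.Agent.Lib.NatNormal87

open Cfsg.Agent.Lib.NatSL2

/-- In a group of exponent two the fixed points of an involutive automorphism are at least a
square root. -/
theorem card_le_fixed_sq {X : Type*} [Group X] [Finite X] {A : Subgroup X} {b : X}
    (hb : b ∈ Subgroup.normalizer (A : Set X)) (hb2 : b ^ 2 = 1)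
    (hcomm : ∀ x ∈ A, ∀ y ∈ A, x * y = y * x) (hexp : ∀ x ∈ A, x ^ 2 = 1) :
    Nat.card A ≤ Nat.card ↥(A ⊓ Subgroup.centralizer ({b} : Set X)) ^ 2 := by
  have hm : ∀ x ∈ A, b * x * b⁻¹ ∈ A := fun x hx => (Subgroup.mem_normalizer_iff.1 hb x).1 hx
  let θ : A →* X := MonoidHom.mk' (fun x => x.1 * (b * x.1 * b⁻¹)) fun x y => by
    show x.1 * y.1 * (b * (x.1 * y.1) * b⁻¹) = x.1 * (b * x.1 * b⁻¹) * (y.1 * (b * y.1 * b⁻¹))
    rw [show b * (x.1 * y.1) * b⁻¹ = b * x.1 * b⁻¹ * (b * y.1 * b⁻¹) by group]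
    calc x.1 * y.1 * (b * x.1 * b⁻¹ * (b * y.1 * b⁻¹))
        = x.1 * (y.1 * (b * x.1 * b⁻¹)) * (b * y.1 * b⁻¹) := by group
      _ = x.1 * ((b * x.1 * b⁻¹) * y.1) * (b * y.1 * b⁻¹) := by rw [hcomm _ y.2 _ (hm _ x.2)]
      _ = _ := by group
  set Z := A ⊓ Subgroup.centralizer ({b} : Set X) with hZ
  have hker : θ.ker = Z.subgroupOf A := by
    ext x
    have hi : x.1⁻¹ = x.1 := inv_eq_of_mul_eq_one_right (by rw [← sq]; exact hexp _ x.2)
    rw [MonoidHom.mem_ker, Subgroup.mem_subgroupOf, hZ, Subgroup.mem_inf,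
      Subgroup.mem_centralizer_iff]
    show x.1 * (b * x.1 * b⁻¹) = 1 ↔ _
    rw [mul_eq_one_iff_inv_eq, hi, eq_mul_inv_iff_mul_eq, eq_comm]
    exact ⟨fun h => ⟨x.2, fun y hy => by rw [show y = b from hy]; exact h⟩, fun h => h.2 b rfl⟩
  have hrange : θ.range ≤ Z := by
    rintro _ ⟨x, rfl⟩
    refine ⟨mul_mem x.2 (hm _ x.2), Subgroup.mem_centralizer_iff.2 fun y hy => ?_⟩
    rw [show y = b from hy]
    show b * (x.1 * (b * x.1 * b⁻¹)) = x.1 * (b * x.1 * b⁻¹) * b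
    have hbb : b * b = 1 := by rw [← sq]; exact hb2
    rw [hcomm _ x.2 _ (hm _ x.2)]
    calc b * (b * x.1 * b⁻¹ * x.1) = (b * b) * x.1 * b⁻¹ * x.1 := by group
      _ = x.1 * b⁻¹ * x.1 := by rw [hbb, one_mul]
      _ = x.1 * b * x.1 := by rw [inv_eq_of_mul_eq_one_right hbb]
      _ = x.1 * b * x.1 * b⁻¹ * b := by group
      _ = _ := by
        rw [show x.1 * b * x.1 * b⁻¹ = x.1 * (b * x.1 * b⁻¹) by group, hcomm _ x.2 _ (hm _ x.2)]
  rw [Subgroup.card_eq_card_quotient_mul_card_subgroup θ.ker, sq,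
    Nat.card_congr (QuotientGroup.quotientKerEquivRange θ).toEquiv, hker,
    Nat.card_congr (Subgroup.subgroupOfEquivOfLe (inf_le_left : Z ≤ A)).toEquiv]
  exact Nat.mul_le_mul_right _ (Subgroup.card_le_of_le hrange)

theorem closure_pair_top {F : Type*} [Field F] {H : Subgroup (Matrix.SpecialLinearGroup (Fin 2) F)}
    (h : ∀ g t, g * SL2.upper t * g⁻¹ ∈ H) : H = ⊤ :=
  LinGroup.closure_upper_lower (fun t => by simpa using h 1 t) fun t => by
    simpa [SL2.weyl_conj_upper] using h SL2.weyl (-t)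

namespace Ctx

variable {X : Type*} [Group X] [Finite X] {F : Type*} [Field F] [Fintype F] {G V L A : Subgroup X}
variable (C : Ctx F G V L A)
include C

theorem card_A : Nat.card A = Fintype.card F := by
  rw [← Nat.card_eq_fintype_card]
  exact (Nat.card_eq_of_bijective (fun t : F => (⟨C.root t, C.root_mem t⟩ : A))
    ⟨fun s t h => C.root_inj (congrArg Subtype.val h), fun a => by
      obtain ⟨t, ht⟩ := C.exists_root a.2
      exact ⟨t, Subtype.ext ht.symm⟩⟩).symm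

theorem A_comm {x y : X} (hx : x ∈ A) (hy : y ∈ A) : x * y = y * x := by
  obtain ⟨s, rfl⟩ := C.exists_root hx
  obtain ⟨t, rfl⟩ := C.exists_root hy
  have h : (⟨C.root s, C.f.le_L (C.root_mem s)⟩ * ⟨C.root t, C.f.le_L (C.root_mem t)⟩ : L) =
      ⟨C.root t, C.f.le_L (C.root_mem t)⟩ * ⟨C.root s, C.f.le_L (C.root_mem s)⟩ :=
    C.f.ρ.injective (by
      rw [map_mul, map_mul, C.rho_root, C.rho_root, SL2.upper_mul, SL2.upper_mul, add_comm])
  exact congrArg Subtype.val h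

theorem A_exp {p : ℕ} [CharP F p] {x : X} (hx : x ∈ A) : x ^ p = 1 := by
  obtain ⟨s, rfl⟩ := C.exists_root hx
  have h : (⟨C.root s, C.f.le_L (C.root_mem s)⟩ : L) ^ p = 1 :=
    C.f.ρ.injective (by
      rw [map_pow, C.rho_root, SL2.upper_pow, CharP.cast_eq_zero, zero_mul, SL2.upper_zero,
        map_one])
  exact congrArg Subtype.val h

/-- No element of `A` normalizes another conjugate of `A`, when `q ≠ 4`. -/
theorem no_norm {p : ℕ} [Fact p.Prime] [CharP F p] (hq : Fintype.card F ≠ 4) {g a : X} (hg : g ∈ G) (ha : a ∈ A) (ha1 : a ≠ 1)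
    (hb : g⁻¹ * a * g ∈ Subgroup.normalizer (A : Set X)) :
    g ∈ Subgroup.normalizer (A : Set X) := by
  by_contra hgA
  set b := g⁻¹ * a * g with hbdef
  have hbG : b ∈ G := mul_mem (mul_mem (inv_mem hg) (C.A_le ha)) hg
  have hgi : g⁻¹ ∉ Subgroup.normalizer (A : Set X) := fun h => hgA (by simpa using inv_mem h)
  have hbA : b ∉ A := fun h => hgi (C.ti (inv_mem hg) ha ha1 (by simpa [hbdef] using h))
  have hbp : b ^ p = 1 := by
    rw [hbdef, show g⁻¹ * a * g = g⁻¹ * a * g⁻¹⁻¹ by group, conj_pow, C.A_exp ha]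
    group
  set P := Subgroup.zpowers b with hP
  have hexpP : ∀ x ∈ P, x ^ p = 1 := by
    intro x hx
    obtain ⟨n, rfl⟩ := Subgroup.mem_zpowers_iff.1 hx
    rw [← zpow_natCast, ← zpow_mul, mul_comm, zpow_mul, zpow_natCast, hbp, one_zpow]
  have hdP : P ⊓ A = ⊥ := by
    by_contra hne
    haveI hprime : Fact (Nat.card P).Prime := ⟨by
      rw [hP, Nat.card_zpowers, orderOf_eq_prime hbp fun h => hbA (h ▸ one_mem A)]
      exact Fact.out⟩
    rcases ((P ⊓ A).subgroupOf P).eq_bot_or_eq_top_of_prime_card with h | h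
    · rw [Subgroup.subgroupOf_eq_bot, disjoint_iff,
        inf_of_le_left (inf_le_left : P ⊓ A ≤ P)] at h
      exact hne h
    · exact hbA ((Subgroup.subgroupOf_eq_top.1 h) (Subgroup.mem_zpowers b)).2
  have hqp : Fintype.card F ≠ p := fun h =>
    hbA ((Subgroup.eq_bot_iff_forall _).1
      ((C.card_le (P := P) (Subgroup.zpowers_le.2 hbG) (Subgroup.zpowers_le.2 hb) hexpP hdP).2 h)
      b (Subgroup.mem_zpowers b) ▸ one_mem A)
  have hp2 : p = 2 := by
    by_contra hp2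
    haveI : Finite F := inferInstance
    have hPp : IsPGroup p P := fun x => ⟨1, Subtype.ext (by simpa using hexpP x.1 x.2)⟩
    have hdl : p ∣ Nat.card C.line := by
      show p ∣ Nat.card ↥(V ⊓ Subgroup.centralizer (A : Set X))
      rw [C.f.card_K, Nat.card_eq_fintype_card]
      obtain ⟨n, -, hn⟩ := FiniteField.card F p
      exact hn ▸ dvd_pow_self p n.ne_zero
    obtain ⟨v, hv, hv1, hfix⟩ := exists_fixed (K := C.line) hPp
      (fun x hx u hu => C.conj_line ((Subgroup.zpowers_le.2 hbG) hx)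
        ((Subgroup.zpowers_le.2 hb) hx) hu) hdl
    obtain ⟨e, rfl⟩ := C.exists_of_mem_line hv
    have he : e ≠ 0 := fun h => hv1 (h ▸ C.pt_zero)
    obtain ⟨σ, hσ⟩ := C.exists_sigma hbG hb he (hfix b (Subgroup.mem_zpowers b))
    -- `b` acts quadratically
    have hquad : ∀ t, σ t - σ (σ t) = t - σ t := by
      intro t
      set w := C.pt (t * e) 0 * b * (C.pt (t * e) 0)⁻¹ * b⁻¹ with hw
      have hwv : w = C.pt (t * e - σ t * e) 0 := by
        rw [hw, show C.pt (t * e) 0 * b * (C.pt (t * e) 0)⁻¹ * b⁻¹ =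
          C.pt (t * e) 0 * (b * C.pt (t * e) 0 * b⁻¹)⁻¹ by group, hσ, C.pt_inv, C.pt_mul,
          neg_zero, add_zero, sub_eq_add_neg]
      have hgw : g * w * g⁻¹ ∈ C.line := by
        have h := C.f.comm_mem_K (C.conjV hg (C.pt_mem (t * e) 0)) ha
        rw [hw, hbdef]
        generalize C.pt (t * e) 0 = u at h ⊢
        rw [show g * (u * (g⁻¹ * a * g) * u⁻¹ * (g⁻¹ * a * g)⁻¹) * g⁻¹ =
          g * u * g⁻¹ * a * (g * u * g⁻¹)⁻¹ * a⁻¹ by group]
        exact h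
      have hfixw : b * w * b⁻¹ = w := by
        calc b * w * b⁻¹ = g⁻¹ * (a * (g * w * g⁻¹) * a⁻¹) * g := by rw [hbdef]; group
          _ = w := by rw [C.fix_line ha hgw]; group
      have h1 : b * C.pt ((t - σ t) * e) 0 * b⁻¹ = C.pt ((t - σ t) * e) 0 := by
        rw [sub_mul, ← hwv, hfixw]
      rw [hσ] at h1
      have := mul_right_cancel₀ he (C.pt_inj h1).1
      rwa [map_sub] at this
    have h2 : (2 : F) ≠ 0 := fun h => hp2 ((Nat.prime_dvd_prime_iff_eq Fact.out Nat.prime_two).1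
      ((CharP.cast_eq_zero_iff F p 2).1 (by exact_mod_cast h)))
    refine hbA (C.mem_of_fix_line hbG hb hbp fun u hu => ?_)
    obtain ⟨x, rfl⟩ := C.exists_of_mem_line hu
    have ht : σ (x / e) = x / e := by
      have k1 := hquad (x / e)
      have k2 := hquad (x / e * (x / e))
      rw [map_mul, map_mul] at k2
      have alg : ∀ r s t : F, s - r = t - s → s * s - r * r = t * t - s * s → s = t := by
        intro r s t k1 k2
        have hz : 2 * (s - t) ^ 2 = 0 := by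
          linear_combination (r + 2 * s - t) * k1 - k2
        exact eq_of_sub_eq_zero ((pow_eq_zero_iff (two_ne_zero)).1
          ((mul_eq_zero.1 hz).resolve_left h2))
      exact alg _ _ _ k1 k2
    have := hσ (x / e)
    rwa [ht, div_mul_cancel₀ _ he] at this
  subst hp2
  set Z := A ⊓ Subgroup.centralizer ({b} : Set X) with hZ
  set B := Z.map (MulAut.conj g).toMonoidHom with hB
  have hBcard : Nat.card B = Nat.card Z :=
    Subgroup.card_map_of_injective (MulAut.conj g).injective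
  have hmemB : ∀ y ∈ B, ∃ x ∈ A, b * x = x * b ∧ g * x * g⁻¹ = y := by
    rintro _ ⟨x, ⟨hxA, hxb⟩, rfl⟩
    exact ⟨x, hxA, Subgroup.mem_centralizer_iff.1 hxb b rfl, rfl⟩
  have hBG : B ≤ G := fun y hy => by
    obtain ⟨x, hx, -, rfl⟩ := hmemB y hy
    exact mul_mem (mul_mem hg (C.A_le hx)) (inv_mem hg)
  have hBA : B ≤ Subgroup.normalizer (A : Set X) := fun y hy => by
    obtain ⟨x, hx, hxb, rfl⟩ := hmemB y hy
    refine C.ti (hBG hy) ha ha1 ?_
    have e : g * x * g⁻¹ * a * (g * x * g⁻¹)⁻¹ = a := by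
      calc g * x * g⁻¹ * a * (g * x * g⁻¹)⁻¹ = g * (x * b) * x⁻¹ * g⁻¹ := by rw [hbdef]; group
        _ = g * (b * x) * x⁻¹ * g⁻¹ := by rw [hxb]
        _ = a := by rw [hbdef]; group
    exact e.symm ▸ ha
  have hBd : B ⊓ A = ⊥ := by
    refine (Subgroup.eq_bot_iff_forall _).2 fun y hy => ?_
    obtain ⟨x, hx, -, rfl⟩ := hmemB y hy.1
    by_contra h1
    exact hgA (C.ti hg hx (fun h => h1 (by rw [h]; group)) hy.2)
  have hBexp : ∀ y ∈ B, y ^ 2 = 1 := fun y hy => by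
    obtain ⟨x, hx, -, rfl⟩ := hmemB y hy
    rw [conj_pow, C.A_exp (p := 2) hx]
    group
  have hle := (C.card_le (p := 2) hBG hBA hBexp hBd).1
  have hsq := card_le_fixed_sq hb hbp (fun x hx y hy => C.A_comm hx hy) fun x hx => C.A_exp hx
  rw [C.card_A, ← hBcard] at hsq
  have hq4 : Fintype.card F ≤ 4 := hsq.trans (le_trans (Nat.pow_le_pow_left hle 2) (by norm_num))
  obtain ⟨n, -, hn⟩ := FiniteField.card F 2
  have hn2 : 2 ≤ (n : ℕ) := by
    by_contra h
    have : (n : ℕ) = 1 := le_antisymm (by omega) n.pos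
    exact hqp (by rw [hn, this, pow_one])
  have := Nat.pow_le_pow_right (show 0 < 2 by norm_num) hn2
  omega

/-- The conjugate of the line by `g`. -/
theorem mem_map_line {g v : X} :
    v ∈ C.line.map (MulAut.conj g).toMonoidHom ↔ g⁻¹ * v * g ∈ C.line := by
  constructor
  · rintro ⟨u, hu, rfl⟩
    simpa [mul_assoc] using hu
  · intro h
    exact ⟨_, h, by show g * (g⁻¹ * v * g) * g⁻¹ = v; group⟩

theorem line_maps {g h : X} (hg : g ∈ G) (hh : h ∈ G)
    (he : C.line.map (MulAut.conj g).toMonoidHom = C.line.map (MulAut.conj h).toMonoidHom) :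
    h⁻¹ * g ∈ Subgroup.normalizer (A : Set X) := by
  refine C.norm_of_line (mul_mem (inv_mem hh) hg) fun v hv => ?_
  have h1 : g * v * g⁻¹ ∈ C.line.map (MulAut.conj h).toMonoidHom :=
    he ▸ C.mem_map_line.2 (by simpa [mul_assoc] using hv)
  have := C.mem_map_line.1 h1
  simpa [mul_assoc] using this

/-- Distinct conjugates of the line meet trivially. -/
theorem line_eq {p : ℕ} [Fact p.Prime] [CharP F p] (hq : Fintype.card F ≠ 4) : ∀ h ∈ G, ∀ v : X, v ≠ 1 → v ∈ C.line →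
    h⁻¹ * v * h ∈ C.line → h ∈ Subgroup.normalizer (A : Set X) := by
  classical
  by_contra! hcon
  obtain ⟨h₀, hh₀, v₀, hv₀, hvl₀, hvh₀, hn₀⟩ := hcon
  let S : Set X := {h | h ∈ G ∧ h ∉ Subgroup.normalizer (A : Set X) ∧
    ∃ v : X, v ≠ 1 ∧ v ∈ C.line ∧ h⁻¹ * v * h ∈ C.line}
  let m : X → ℕ := fun h => Nat.card ↥(C.line ⊓ C.line.map (MulAut.conj h).toMonoidHom)
  obtain ⟨h, ⟨hhG, hhn, d, hd1, hdl, hdh⟩, hmax⟩ :=
    Set.exists_max_image S m (Set.toFinite S) ⟨h₀, hh₀, hn₀, v₀, hv₀, hvl₀, hvh₀⟩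
  set l' := C.line.map (MulAut.conj h).toMonoidHom with hl'
  obtain ⟨s, hs, hsl⟩ : ∃ s ∈ l', s ∉ C.line := by
    by_contra! hle
    refine hhn (C.norm_of_line hhG fun v hv => hle _ ?_)
    exact C.mem_map_line.2 (by simpa [mul_assoc] using hv)
  have hsV : s ∈ V := by
    have := C.conjV hhG (C.line_le (C.mem_map_line.1 hs))
    simpa [mul_assoc] using this
  obtain ⟨x, y, rfl⟩ : ∃ x y, s = C.pt x y := ⟨_, _, C.eq_pt hsV⟩
  have hy : y ≠ 0 := fun h0 => hsl (h0 ▸ C.pt_mem_line x)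
  obtain ⟨e, rfl⟩ := C.exists_of_mem_line hdl
  have he : e ≠ 0 := fun h0 => hd1 (h0 ▸ C.pt_zero)
  set a := C.root (e / y) with ha
  have haA : a ∈ A := C.root_mem _
  have ha1 : a ≠ 1 := C.root_ne_one (div_ne_zero he hy)
  have has : a * C.pt x y * a⁻¹ = C.pt (x + e) y := by
    rw [ha, C.conj_root_pt, div_mul_cancel₀ _ hy]
  have hdl' : C.pt e 0 ∈ l' := C.mem_map_line.2 hdh
  have hsd : C.pt (x + e) y ∈ l' := by
    have := l'.mul_mem hs hdl'
    rwa [C.pt_mul, add_zero] at this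
  set m1 := (a * h)⁻¹ with hm1
  -- conjugate the pair `(a h, h)` so that the first line is `line`
  set k := (a * h)⁻¹ * h with hk
  have haG : a ∈ G := C.A_le haA
  have hkG : k ∈ G := mul_mem (inv_mem (mul_mem haG hhG)) hhG
  have hkn : k ∉ Subgroup.normalizer (A : Set X) := by
    intro hk'
    refine hhn (C.no_norm (p := p) hq hhG haA ha1 ?_)
    have e' : h⁻¹ * a * h = k⁻¹ := by rw [hk]; group
    exact e' ▸ inv_mem hk'
  have hmove : ∀ v, v ∈ l' → a * v * a⁻¹ ∈ C.line.map (MulAut.conj (a * h)).toMonoidHom := by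
    intro v hv
    refine C.mem_map_line.2 ?_
    have := C.mem_map_line.1 hv
    simpa [mul_assoc] using this
  let ι : X →* X := (MulAut.conj (a * h)⁻¹).toMonoidHom
  have hι : ∀ v, v ∈ l' → v ∈ C.line.map (MulAut.conj (a * h)).toMonoidHom →
      ι v ∈ C.line ⊓ C.line.map (MulAut.conj k).toMonoidHom := by
    intro v hv hv'
    have h1 := C.mem_map_line.1 hv'
    have h2 := C.mem_map_line.1 hv
    refine ⟨by simpa [ι, mul_assoc] using h1, C.mem_map_line.2 ?_⟩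
    simpa [ι, hk, mul_assoc] using h2
  set D := C.line ⊓ l' with hD
  set D' := l' ⊓ C.line.map (MulAut.conj (a * h)).toMonoidHom with hD'
  have hDD' : D ≤ D' := fun v hv => ⟨hv.2, by
    have := hmove v hv.2
    rwa [C.fix_line haA hv.1] at this⟩
  have hsd' : C.pt (x + e) y ∈ D' := ⟨hsd, has ▸ hmove _ hs⟩
  have hsdD : C.pt (x + e) y ∉ D := fun hmem => by
    obtain ⟨z, hz⟩ := C.exists_of_mem_line hmem.1
    exact hy (C.pt_inj hz).2
  have hlt : Nat.card D < Nat.card D' := by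
    refine lt_of_le_of_ne (Subgroup.card_le_of_le hDD') fun hc => hsdD ?_
    rw [Subgroup.eq_of_le_of_card_ge hDD' hc.ge]
    exact hsd'
  have hle : Nat.card D' ≤ m k := by
    rw [show Nat.card D' = Nat.card (D'.map ι) from
      (Subgroup.card_map_of_injective (MulAut.conj (a * h)⁻¹).injective).symm]
    exact Subgroup.card_le_of_le (by rintro _ ⟨v, hv, rfl⟩; exact hι v hv.1 hv.2)
  have hkS : k ∈ S := by
    have hmem := hι _ hsd hsd'.2
    exact ⟨hkG, hkn, ι (C.pt (x + e) y), fun h1 => hy (C.pt_inj ((map_eq_one_iff ι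
      (MulAut.conj (a * h)⁻¹).injective).1 h1 |>.trans C.pt_zero.symm)).2,
      hmem.1, C.mem_map_line.1 hmem.2⟩
  exact absurd (hmax k hkS) (not_le.2 (hlt.trans_le hle))

theorem exists_L_conj {v : X} (hv : v ∈ V) (hv1 : v ≠ 1) :
    ∃ x ∈ L, x⁻¹ * v * x ∈ C.line := by
  obtain ⟨a, b, rfl⟩ : ∃ a b, v = C.pt a b := ⟨_, _, C.eq_pt hv⟩
  by_cases hb : b = 0
  · subst hb
    exact ⟨1, one_mem L, by simpa using C.pt_mem_line a⟩
  · obtain ⟨x, hx⟩ := C.f.ρ.surjective (SL2.ofEntries (a / b) (-1) 1 0 (by ring))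
    refine ⟨x.1, x.2, C.f.mem_K.2 ?_⟩
    have hxi : (⟨x.1⁻¹, inv_mem x.2⟩ : L) = x⁻¹ := rfl
    have hm : x.1⁻¹ * C.pt a b * x.1 = x.1⁻¹ * C.pt a b * x.1⁻¹⁻¹ := by rw [inv_inv]
    rw [hm]
    refine ⟨C.f.conj_mem (inv_mem x.2) (C.pt_mem a b), ?_⟩
    rw [C.f.c_conj (inv_mem x.2) (C.pt_mem a b), hxi, map_inv, hx, C.c_pt]
    simp only [Matrix.mulVec, dotProduct, Fin.sum_univ_two, SL2.inv_10, SL2.inv_11]
    simp [SL2.ofEntries]
    field_simp
    ring

theorem conj_le {p : ℕ} [Fact p.Prime] [CharP F p] (hq : Fintype.card F ≠ 4) {g a : X} (hg : g ∈ G) (ha : a ∈ A) :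
    g * a * g⁻¹ ∈ L := by
  have hne : C.pt 1 0 ≠ 1 := fun h => one_ne_zero (C.pt_inj (h.trans C.pt_zero.symm)).1
  set v := g * C.pt 1 0 * g⁻¹ with hv
  have hv1 : v ≠ 1 := fun h => hne (conj_eq_one_iff.1 h)
  obtain ⟨x, hx, hxl⟩ := C.exists_L_conj (C.conjV hg (C.pt_mem 1 0)) hv1
  have hn := C.line_eq (p := p) hq (g⁻¹ * x) (mul_mem (inv_mem hg) (C.hLG hx)) (C.pt 1 0) hne
    (C.pt_mem_line 1) (by simpa [hv, mul_assoc] using hxl)
  have hy : (g⁻¹ * x)⁻¹ * a * (g⁻¹ * x)⁻¹⁻¹ ∈ A :=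
    (Subgroup.mem_normalizer_iff.1 (inv_mem hn) a).1 ha
  have hz := mul_mem (mul_mem hx (C.f.le_L hy)) (inv_mem hx)
  rw [show g * a * g⁻¹ = x * ((g⁻¹ * x)⁻¹ * a * (g⁻¹ * x)⁻¹⁻¹) * x⁻¹ by group]
  exact hz

theorem normal {p : ℕ} [Fact p.Prime] [CharP F p] (hq : Fintype.card F ≠ 4) : (L.subgroupOf G).Normal := by
  refine ⟨fun n hn g => ?_⟩
  rw [Subgroup.mem_subgroupOf] at hn ⊢
  have key : ∀ x : L, g.1 * x.1 * g.1⁻¹ ∈ L := by
    let H : Subgroup (Matrix.SpecialLinearGroup (Fin 2) F) :=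
      ((L.comap (MulAut.conj g.1).toMonoidHom).subgroupOf L).map C.f.ρ.toMonoidHom
    have hH : H = ⊤ := closure_pair_top fun s t => by
      obtain ⟨x, hx⟩ := C.f.ρ.surjective s
      refine ⟨x * ⟨C.root t, C.f.le_L (C.root_mem t)⟩ * x⁻¹, ?_, ?_⟩
      · show g.1 * (x.1 * C.root t * x.1⁻¹) * g.1⁻¹ ∈ L
        have := C.conj_le (p := p) hq (mul_mem g.2 (C.hLG x.2)) (C.root_mem t)
        simpa [mul_assoc] using this
      · show C.f.ρ (x * ⟨C.root t, _⟩ * x⁻¹) = _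
        rw [map_mul, map_mul, map_inv, hx, C.rho_root]
    intro x
    obtain ⟨y, hy, hxy⟩ : C.f.ρ x ∈ H := hH ▸ Subgroup.mem_top _
    exact C.f.ρ.injective hxy ▸ hy
  exact key ⟨n.1, hn⟩

end Ctx

end Cfsg.Agent.Lib.NatNormal87
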