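import Mathlib
import Cfsg.Agent.Lib.NatNormal87.Ctx

/-!
When the normalizer of `L` contains a Sylow subgroup of `G`, a root group of `L` is the whole
stabilizer of its series.
-/

set_option autoImplicit false

namespace Cfsg.Agent.Lib.NatNormal87

open Cfsg.Agent.Lib.NatSL2
open scoped Pointwise

variable {X : Type*} [Group X] {F : Type*} [Field F] {G V L A : Subgroup X}

/-- An element of `N(L)` stabilizing the series lies in the root group. -/
theorem mem_of_normalizer (f : Frame F V L A) (hG : G ≤ Subgroup.normalizer (V : Set X))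
    (hLG : L ≤ G) (faith : ∀ g ∈ G, (∀ v ∈ V, g * v * g⁻¹ = v) → g = 1) {g : X} (hg : g ∈ G)
    (hgL : g ∈ Subgroup.normalizer (L : Set X))
    (h1 : ∀ v ∈ V ⊓ Subgroup.centralizer (A : Set X), g * v * g⁻¹ = v)
    (h2 : ∀ v ∈ V, v * g * v⁻¹ * g⁻¹ ∈ V ⊓ Subgroup.centralizer (A : Set X)) : g ∈ A := by
  have conjV : ∀ {x v : X}, x ∈ G → v ∈ V → x * v * x⁻¹ ∈ V := fun hx hv =>
    (Subgroup.mem_normalizer_iff.1 (hG hx) _).1 hv
  obtain ⟨w, hw, hcw⟩ := f.c_surj ![0, 1]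
  obtain ⟨hdV, hd1⟩ := f.mem_K.1 (h2 w hw)
  have hgw0 : g * w * g⁻¹ ∈ V := conjV hg hw
  -- correct by an element of `A` so that `w` is fixed
  obtain ⟨a, haL, haA, ha⟩ := f.exists_upper (f.c (w * g * w⁻¹ * g⁻¹) hdV 0)
  have hcg : f.c (g * w * g⁻¹) hgw0 = ![-(f.c (w * g * w⁻¹ * g⁻¹) hdV 0), 1] := by
    have h : f.c (w * g * w⁻¹ * g⁻¹) hdV = f.c w hw + -f.c (g * w * g⁻¹) hgw0 := by
      rw [← f.c_inv hgw0, ← f.c_mul hw (inv_mem hgw0)]
      congr 1
      group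
    ext i
    fin_cases i
    · have := congrFun h 0
      rw [hcw] at this
      simp at this ⊢
      linear_combination this
    · have := congrFun h 1
      rw [hd1, hcw] at this
      simp at this ⊢
      linear_combination this
  set g' := a * g with hg'
  have hg'G : g' ∈ G := mul_mem (hLG haL) hg
  have hg'L : g' ∈ Subgroup.normalizer (L : Set X) := mul_mem (Subgroup.le_normalizer haL) hgL
  have hfixl : ∀ v ∈ V ⊓ Subgroup.centralizer (A : Set X), g' * v * g'⁻¹ = v := fun v hv => by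
    rw [hg', show a * g * v * (a * g)⁻¹ = a * (g * v * g⁻¹) * a⁻¹ by group, h1 v hv,
      mul_inv_eq_iff_eq_mul]
    exact Subgroup.mem_centralizer_iff.1 hv.2 a haA
  have hgw : g' * w * g'⁻¹ = w := by
    rw [hg', show a * g * w * (a * g)⁻¹ = a * (g * w * g⁻¹) * a⁻¹ by group]
    refine f.c_inj (hv := f.conj_mem haL hgw0) (hw := hw) ?_
    rw [f.c_conj haL hgw0, hcg, ha, hcw]
    ext i
    fin_cases i <;> simp [SL2.upper, Matrix.mulVec, dotProduct, Fin.sum_univ_two]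
  suffices g' = 1 by
    rw [hg'] at this
    rw [eq_inv_of_mul_eq_one_right this]
    exact inv_mem haA
  refine faith g' hg'G fun v hv => ?_
  obtain ⟨u, hu, hcu⟩ := f.c_surj ![f.c v hv 0, 0]
  obtain ⟨v2, hv2, hcv2⟩ := f.c_surj ![0, f.c v hv 1]
  have hsplit : v = u * v2 := by
    refine f.c_inj (hv := hv) (hw := mul_mem hu hv2) ?_
    rw [f.c_mul hu hv2, hcu, hcv2]
    ext i
    fin_cases i <;> simp
  have hu' : g' * u * g'⁻¹ = u := hfixl u (f.mem_K.2 ⟨hu, by rw [hcu]; rfl⟩)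
  suffices g' * v2 * g'⁻¹ = v2 by
    rw [hsplit, show g' * (u * v2) * g'⁻¹ = (g' * u * g'⁻¹) * (g' * v2 * g'⁻¹) by group, hu', this]
  set v' := g' * v2 * g'⁻¹ with hv'
  have hv'V : v' ∈ V := conjV hg'G hv2
  obtain ⟨x, hx⟩ := f.ρ.surjective (SL2.lower 1)
  have hxw : x.1 * w * x.1⁻¹ = w := by
    refine f.c_inj (hv := f.conj_mem x.2 hw) (hw := hw) ?_
    rw [f.c_conj x.2 hw, hx, hcw]
    ext i
    fin_cases i <;> simp [SL2.lower, SL2.ofEntries, Matrix.mulVec, dotProduct, Fin.sum_univ_two]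
  set x' := g'⁻¹ * x.1 * g' with hx'
  have hx'L : x' ∈ L := (Subgroup.mem_normalizer_iff''.1 hg'L _).1 x.2
  have hx'w : x' * w * x'⁻¹ = w := by
    rw [hx', show g'⁻¹ * x.1 * g' * w * (g'⁻¹ * x.1 * g')⁻¹ =
      g'⁻¹ * (x.1 * (g' * w * g'⁻¹) * x.1⁻¹) * g' by group, hgw, hxw]
    nth_rw 1 [← hgw]
    group
  have hfix : x' * v2 * x'⁻¹ = v2 := by
    refine f.c_inj (hv := f.conj_mem hx'L hv2) (hw := hv2) ?_
    have hM : (f.ρ ⟨x', hx'L⟩).1.mulVec ![0, 1] = ![0, 1] := by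
      rw [← hcw, ← f.c_conj hx'L hw]
      congr 1
    rw [f.c_conj hx'L hv2, hcv2]
    have h0 := congrFun hM 0
    have h1 := congrFun hM 1
    simp [Matrix.mulVec, dotProduct, Fin.sum_univ_two] at h0 h1
    ext i
    fin_cases i <;> simp [Matrix.mulVec, dotProduct, Fin.sum_univ_two, h0, h1]
  have hxv' : x.1 * v' * x.1⁻¹ = v' := by
    rw [hv', show x.1 * (g' * v2 * g'⁻¹) * x.1⁻¹ = g' * (x' * v2 * x'⁻¹) * g'⁻¹ by
      rw [hx']; group, hfix]
  have h0 : f.c v' hv'V 0 = 0 := by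
    have hL : f.c (x.1 * v' * x.1⁻¹) (f.conj_mem x.2 hv'V) = f.c v' hv'V := by
      congr 1
    rw [f.c_conj x.2 hv'V, hx] at hL
    simpa [SL2.lower, SL2.ofEntries, Matrix.mulVec, dotProduct, Fin.sum_univ_two] using
      congrFun hL 1
  obtain ⟨hd2V, hd21⟩ := f.mem_K.1 (h2 v2 hv2)
  have hb : a * (v2 * g * v2⁻¹ * g⁻¹) * a⁻¹ = v2 * g * v2⁻¹ * g⁻¹ := by
    rw [mul_inv_eq_iff_eq_mul]
    exact Subgroup.mem_centralizer_iff.1 (h2 v2 hv2).2 a haA
  have hgv : g * v2 * g⁻¹ ∈ V := conjV hg hv2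
  have h1' : f.c (g * v2 * g⁻¹) hgv 1 = f.c v2 hv2 1 := by
    have h : f.c (v2 * g * v2⁻¹ * g⁻¹) hd2V = f.c v2 hv2 + -f.c (g * v2 * g⁻¹) hgv := by
      rw [← f.c_inv hgv, ← f.c_mul hv2 (inv_mem hgv)]
      congr 1
      group
    have := congrFun h 1
    rw [hd21] at this
    simp at this
    linear_combination this
  have h11 : f.c v' hv'V 1 = f.c v2 hv2 1 := by
    have h : f.c v' hv'V = f.c (a * (g * v2 * g⁻¹) * a⁻¹) (f.conj_mem haL hgv) := by
      congr 1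
      rw [hv', hg']
      group
    rw [h, f.c_conj haL hgv, ha]
    simp [SL2.upper, Matrix.mulVec, dotProduct, Fin.sum_univ_two, h1']
  refine f.c_inj (hv := hv'V) (hw := hv2) ?_
  ext i
  fin_cases i
  · simpa [hcv2] using h0
  · exact h11

/-- The stabilizer of the series. -/
def series (f : Frame F V L A) (hG : G ≤ Subgroup.normalizer (V : Set X)) [Finite X] : Subgroup X where
  carrier := {g | g ∈ G ∧ (∀ v ∈ V ⊓ Subgroup.centralizer (A : Set X), g * v * g⁻¹ = v) ∧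
    ∀ v ∈ V, v * g * v⁻¹ * g⁻¹ ∈ V ⊓ Subgroup.centralizer (A : Set X)}
  one_mem' := ⟨one_mem G, fun v _ => by group, fun v _ => by simp⟩
  mul_mem' := fun {g h} hg hh => ⟨mul_mem hg.1 hh.1, fun v hv => by
      rw [show g * h * v * (g * h)⁻¹ = g * (h * v * h⁻¹) * g⁻¹ by group, hh.2.1 v hv, hg.2.1 v hv],
    fun v hv => by
      rw [show v * (g * h) * v⁻¹ * (g * h)⁻¹ =
        (v * g * v⁻¹ * g⁻¹) * (g * (v * h * v⁻¹ * h⁻¹) * g⁻¹) by group,
        hg.2.1 _ (hh.2.2 v hv)]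
      exact mul_mem (hg.2.2 v hv) (hh.2.2 v hv)⟩
  inv_mem' := fun {g} hg => ⟨inv_mem hg.1, fun v hv => by
      nth_rw 1 [← hg.2.1 v hv]
      group,
    fun v hv => by
      have h := inv_mem (hg.2.2 v hv)
      have h' := hg.2.1 _ h
      have e : g⁻¹ * (v * g * v⁻¹ * g⁻¹)⁻¹ * g = (v * g * v⁻¹ * g⁻¹)⁻¹ := by
        nth_rw 1 [← h']
        group
      rw [show v * g⁻¹ * v⁻¹ * g⁻¹⁻¹ = g⁻¹ * (g * v * g⁻¹ * v⁻¹) * g by group,
        show g * v * g⁻¹ * v⁻¹ = (v * g * v⁻¹ * g⁻¹)⁻¹ by group, e]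
      exact h⟩

theorem series_isPGroup (f : Frame F V L A) (hG : G ≤ Subgroup.normalizer (V : Set X)) [Finite X]
    {p : ℕ} [CharP F p] (faith : ∀ g ∈ G, (∀ v ∈ V, g * v * g⁻¹ = v) → g = 1) :
    IsPGroup p (series f hG) := by
  intro ⟨g, hg⟩
  refine ⟨1, Subtype.ext ?_⟩
  show g ^ (p ^ 1) = 1
  rw [pow_one]
  refine faith _ (pow_mem hg.1 p) fun v hv => ?_
  set d := v * g * v⁻¹ * g⁻¹ with hd
  have hdl : d ∈ V ⊓ Subgroup.centralizer (A : Set X) := hg.2.2 v hv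
  have hn : ∀ n : ℕ, g ^ n * v * (g ^ n)⁻¹ = (d ^ n)⁻¹ * v := by
    intro n
    induction n with
    | zero => simp
    | succ n ih =>
      rw [pow_succ' g, show g * g ^ n * v * (g * g ^ n)⁻¹ = g * (g ^ n * v * (g ^ n)⁻¹) * g⁻¹ by
        group, ih, show g * ((d ^ n)⁻¹ * v) * g⁻¹ = g * (d ^ n)⁻¹ * g⁻¹ * (g * v * g⁻¹) by group,
        hg.2.1 _ (inv_mem (pow_mem hdl n))]
      have e : g * v * g⁻¹ = d⁻¹ * v := by
        have hgv : g * v * g⁻¹ ∈ V := (Subgroup.mem_normalizer_iff.1 (hG hg.1) _).1 hv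
        have hc : v * (g * v * g⁻¹) = g * v * g⁻¹ * v := by
          refine f.c_inj (hv := mul_mem hv hgv) (hw := mul_mem hgv hv) ?_
          rw [f.c_mul hv hgv, f.c_mul hgv hv, add_comm]
        rw [hd, show (v * g * v⁻¹ * g⁻¹)⁻¹ * v = g * v * g⁻¹ * v⁻¹ * v by group]
        group
      rw [e, pow_succ']
      group
  have hp := hn p
  have hd1 : d ^ p = 1 := by
    have hc : ∀ n : ℕ, f.c (d ^ n) (pow_mem hdl.1 n) = n • f.c d hdl.1 := by
      intro n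
      induction n with
      | zero =>
        rw [zero_smul, ← f.c_one]
        congr 1
        exact pow_zero d
      | succ n ih =>
        rw [succ_nsmul, ← ih, ← f.c_mul (pow_mem hdl.1 n) hdl.1]
        congr 1
        exact pow_succ d n
    refine f.c_inj (hv := pow_mem hdl.1 p) (hw := one_mem V) ?_
    rw [hc, f.c_one]
    ext i
    simp
  rwa [hd1, inv_one, one_mul] at hp

/-- The stabilizer of the series is the root group. -/
theorem mem_of_series [Finite X] (f : Frame F V L A) (hG : G ≤ Subgroup.normalizer (V : Set X))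
    (hLG : L ≤ G) (faith : ∀ g ∈ G, (∀ v ∈ V, g * v * g⁻¹ = v) → g = 1) {p : ℕ} [Fact p.Prime]
    [CharP F p] (S₀ : Sylow p L) (hS₀ : (S₀ : Subgroup L).map L.subtype = A)
    (hSyl : ∀ S : Sylow p ↥(G ⊓ Subgroup.normalizer (L : Set X)), ∀ P : Sylow p ↥G,
      Nat.card S = Nat.card P) :
    ∀ g ∈ G, (∀ v ∈ V ⊓ Subgroup.centralizer (A : Set X), g * v * g⁻¹ = v) →
      (∀ v ∈ V, v * g * v⁻¹ * g⁻¹ ∈ V ⊓ Subgroup.centralizer (A : Set X)) → g ∈ A := by
  set N := G ⊓ Subgroup.normalizer (L : Set X) with hN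
  have hAL : A ≤ L := f.le_L
  have hAp : IsPGroup p A := hS₀ ▸ S₀.isPGroup'.map L.subtype
  have hAN : A ≤ N := le_inf (hAL.trans hLG) (hAL.trans Subgroup.le_normalizer)
  obtain ⟨S, hS⟩ := (hAp.of_equiv (Subgroup.subgroupOfEquivOfLe hAN).symm).exists_le_sylow
  set T := (S : Subgroup N).map N.subtype with hT
  have hTp : IsPGroup p T := S.isPGroup'.map N.subtype
  have hTN : T ≤ N := Subgroup.map_subtype_le _
  have hTG : T ≤ G := hTN.trans inf_le_left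
  have hAT : A ≤ T := fun a ha => ⟨⟨a, hAN ha⟩, hS ha, rfl⟩
  have hTL : T ⊓ L = A := by
    refine le_antisymm ?_ (le_inf hAT hAL)
    have hp' : IsPGroup p ((T ⊓ L).subgroupOf L) :=
      (hTp.to_le inf_le_left).of_equiv (Subgroup.subgroupOfEquivOfLe inf_le_right).symm
    have hle : (S₀ : Subgroup L) ≤ (T ⊓ L).subgroupOf L := fun x hx =>
      ⟨hAT (hS₀ ▸ ⟨x, hx, rfl⟩), x.2⟩
    have heq := S₀.is_maximal' hp' hle
    intro x hx
    rw [← hS₀]
    exact ⟨⟨x, hx.2⟩, heq ▸ hx, rfl⟩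
  have hTA : ∀ t ∈ T, ∀ a, a ∈ A → t * a * t⁻¹ ∈ A := fun t ht a ha => by
    rw [← hTL] at ha ⊢
    exact ⟨T.mul_mem (T.mul_mem ht ha.1) (T.inv_mem ht),
      (Subgroup.mem_normalizer_iff.1 (hTN ht).2 a).1 ha.2⟩
  have hTl : ∀ t ∈ T, ∀ v ∈ V ⊓ Subgroup.centralizer (A : Set X),
      t * v * t⁻¹ ∈ V ⊓ Subgroup.centralizer (A : Set X) := fun t ht v hv => by
    refine ⟨(Subgroup.mem_normalizer_iff.1 (hG (hTG ht)) v).1 hv.1,
      Subgroup.mem_centralizer_iff.2 fun a ha => ?_⟩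
    have := Subgroup.mem_centralizer_iff.1 hv.2 _ (show t⁻¹ * a * t ∈ A by
      simpa using hTA t⁻¹ (inv_mem ht) a ha)
    calc a * (t * v * t⁻¹) = t * (t⁻¹ * a * t * v) * t⁻¹ := by group
      _ = t * (v * (t⁻¹ * a * t)) * t⁻¹ := by rw [this]
      _ = t * v * t⁻¹ * a := by group
  set U := series f hG with hU
  have hnorm : ∀ t ∈ T, ∀ u ∈ U, t * u * t⁻¹ ∈ U := by
    intro t ht u hu
    refine ⟨mul_mem (mul_mem (hTG ht) hu.1) (inv_mem (hTG ht)), fun v hv => ?_, fun v hv => ?_⟩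
    · have h := hTl t⁻¹ (inv_mem ht) v hv
      rw [inv_inv] at h
      rw [show t * u * t⁻¹ * v * (t * u * t⁻¹)⁻¹ = t * (u * (t⁻¹ * v * t) * u⁻¹) * t⁻¹ by group,
        hu.2.1 _ h]
      group
    · have hw : t⁻¹ * v * t ∈ V :=
        (Subgroup.mem_normalizer_iff''.1 (hG (hTG ht)) v).1 hv
      have h := hTl t ht _ (hu.2.2 _ hw)
      rw [show v * (t * u * t⁻¹) * v⁻¹ * (t * u * t⁻¹)⁻¹ =
        t * ((t⁻¹ * v * t) * u * (t⁻¹ * v * t)⁻¹ * u⁻¹) * t⁻¹ by group]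
      exact h
  have hTU : T ≤ Subgroup.normalizer (U : Set X) := fun t ht =>
    Subgroup.mem_normalizer_iff.2 fun u => ⟨hnorm t ht u, fun h => by
      simpa [mul_assoc] using hnorm t⁻¹ (inv_mem ht) _ h⟩
  have hUG : U ≤ G := fun g hg => hg.1
  have hjoin : IsPGroup p ↥(T ⊔ U) :=
    hTp.to_sup_of_normal_right' (series_isPGroup f hG faith) hTU
  have hle : (T ⊔ U) ≤ G := sup_le hTG hUG
  obtain ⟨P, hP⟩ := (hjoin.of_equiv (Subgroup.subgroupOfEquivOfLe hle).symm).exists_le_sylow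
  have hcard : Nat.card ↥(T ⊔ U) ≤ Nat.card T := by
    have h1 : Nat.card T = Nat.card S := Subgroup.card_map_of_injective Subtype.val_injective
    rw [h1, hSyl S P, ← Nat.card_congr (Subgroup.subgroupOfEquivOfLe hle).toEquiv]
    exact Subgroup.card_le_of_le hP
  have hUT : U ≤ T := (Subgroup.eq_of_le_of_card_ge (le_sup_left : T ≤ T ⊔ U) hcard) ▸ le_sup_right
  exact fun g hg h1 h2 => mem_of_normalizer f hG hLG faith hg (hTN (hUT ⟨hg, h1, h2⟩)).2 h1 h2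

end Cfsg.Agent.Lib.NatNormal87
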